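import Cfsg.Agent.BlocksChars.DegreeTwoP.Setup
import Cfsg.Agent.Lib.PrimeBlock.PrimeDegree.Char
import Cfsg.Agent.Lib.Perm.Subdegrees

/-!
# Degree `2 p`: the principal block at `p` and the permutation character
-/

set_option autoImplicit false
set_option linter.style.haveILetI false
set_option linter.unusedSectionVars false

namespace Cfsg.Agent.BlocksChars.DegreeTwoP

open Cfsg.Agent.Characters Cfsg.Agent.Blocks Subgroup
open Cfsg.Agent.Perm.PermModule Cfsg.Agent.PrimeBlock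
open scoped ComplexConjugate

universe u v

variable {G : Type u} [Group G] [Finite G] {α : Type v} [MulAction G α] [Finite α] {p : ℕ}
  [Fact p.Prime] {P : Sylow p G}

/-- The principal block at `p`. -/
structure Blk (P : Sylow p G) where
  D : PBlock P
  ht : trivIrr G ∈ D.X
  hts : D.sgn (trivIrr G) = 1
  χ : Cfsg.IrrCharacter G
  hX : ∀ ψ, ψ ∈ D.X ∧ ψ ≠ trivIrr G ↔ ψ = χ
  hsgn : D.sgn χ = -1
  hε : D.ε = -1
  he : D.e = 2
  hdeg : deg χ + 1 = p

theorem Blk.erase_eq [DecidableEq (Cfsg.IrrCharacter G)] (S : Blk P) :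
    S.D.X.erase (trivIrr G) = {S.χ} := by
  ext ψ
  rw [Finset.mem_erase, Finset.mem_singleton, and_comm, S.hX]

theorem Blk.χ_one (S : Blk P) : (S.χ : G → ℂ) 1 = (p : ℂ) - 1 := by
  rw [← deg_cast]
  have h : ((deg S.χ + 1 : ℕ) : ℂ) = p := by rw [S.hdeg]
  push_cast at h
  linear_combination h

/-- The exceptional characters on the regular elements. -/
theorem Blk.Y_regular (S : Blk P) {θ : Cfsg.IrrCharacter G} (hθ : θ ∈ S.D.Y) {g : G}
    (hg : ¬ p ∣ orderOf g) : (θ : G → ℂ) g = (S.χ : G → ℂ) g - 1 := by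
  classical
  have h := S.D.rel θ hθ g hg
  rw [S.hε, ← Finset.add_sum_erase _ _ S.ht, S.hts, S.erase_eq, Finset.sum_singleton, S.hsgn] at h
  simp only [trivIrr_coe] at h
  push_cast at h
  linear_combination -h

theorem exists_blk (H : Hyp α P) : Nonempty (Blk P) := by
  classical
  haveI := Fintype.ofFinite G
  haveI := Fintype.ofFinite α
  haveI := Fintype.ofFinite (Cfsg.IrrCharacter G)
  haveI := H.isSimpleGroup
  haveI := H.nonempty
  haveI := H.pretrans
  have hG := H.not_comm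
  have hC := H.card_centralizer
  have hp0 : p.Prime := Fact.out
  have hp3 := H.p3
  have hpC : (p : ℂ) ≠ 0 := Nat.cast_ne_zero.2 hp0.ne_zero
  obtain ⟨D, ht, hts⟩ := exists_pblock' hG (by omega : p ≠ 2) P H.card_P
  have he : D.e = 2 := by
    have := Brauer.card_normalizer D hC
    rw [H.hN, mul_comm] at this
    exact (Nat.eq_of_mul_eq_mul_left hp0.pos this).symm
  obtain ⟨x, hx1, hx⟩ := D.exists_ne_one
  have hxo := D.orderOf_eq hx hx1
  choose μ hμ using fun χ : Cfsg.IrrCharacter G =>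
    sum_powers (irr_isCharacter χ) hp0.ne_zero (D.x_pow hx)
  obtain ⟨n, hn⟩ := char_eq_sum_nat (G := G) (χ := permChar G α) (isCharacter_permChar α)
  have hπ : ∀ g : G, permChar G α g = ∑ χ : Cfsg.IrrCharacter G, (n χ : ℂ) * (χ : G → ℂ) g :=
    fun g => by simpa [Finset.sum_apply, smul_eq_mul] using congrFun hn g
  have hinner : ∀ ψ : Cfsg.IrrCharacter G,
      Cfsg.classInner (permChar G α) (ψ : G → ℂ) = (n ψ : ℂ) := fun ψ => by
    have h1 := classInner_sum_smul_irr (c := fun χ : Cfsg.IrrCharacter G => (n χ : ℂ)) Finset.univ ψ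
    rwa [← hn, if_pos (Finset.mem_univ _)] at h1
  have hn1 : n (trivIrr G) = 1 := by
    have h1 := hinner (trivIrr G)
    rw [show ((trivIrr G : Cfsg.IrrCharacter G) : G → ℂ) = fun _ => 1 from rfl,
      classInner_permChar_one (G := G) (Ω := α)] at h1
    exact_mod_cast h1.symm
  have hsq : ∑ ψ ∈ Finset.univ.erase (trivIrr G), n ψ * n ψ = 2 := by
    obtain ⟨a⟩ := H.nonempty
    have h := Cfsg.Agent.Perm.Subdegrees.rank_eq (G := G) (Ω := α) a
    rw [H.rank a] at h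
    have h1 : Cfsg.classInner (permChar G α) (permChar G α) =
        ∑ ψ : Cfsg.IrrCharacter G, (n ψ : ℂ) * Cfsg.classInner (permChar G α) (ψ : G → ℂ) := by
      simp only [classInner_def, Finset.mul_sum]
      rw [Finset.sum_comm]
      refine Finset.sum_congr rfl fun g _ => ?_
      nth_rw 2 [hπ g]
      simp only [map_sum, map_mul, map_natCast, Finset.mul_sum]
      exact Finset.sum_congr rfl fun ψ _ => by ring
    rw [h1, Finset.sum_congr rfl fun ψ _ => by rw [hinner ψ]] at h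
    have h2 : ∑ ψ : Cfsg.IrrCharacter G, n ψ * n ψ = 3 := by exact_mod_cast h
    rw [← Finset.add_sum_erase _ _ (Finset.mem_univ (trivIrr G)), hn1] at h2
    omega
  have hμ1 : μ (trivIrr G) = 1 := by
    have h := hμ (trivIrr G)
    simp only [trivIrr_coe, Finset.sum_const, Finset.card_range, nsmul_one] at h
    have : (p : ℂ) * ((1 : ℕ) : ℂ) = (p : ℂ) * (μ (trivIrr G) : ℂ) := by rw [Nat.cast_one, mul_one]; exact h
    exact_mod_cast (mul_left_cancel₀ hpC this).symm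
  have hπ1 : permChar G α (1 : G) = 2 * (p : ℂ) := by
    rw [permChar, show MulAction.fixedBy α (1 : G) = Set.univ from
      Set.eq_univ_of_forall fun a => by simp, Nat.card_univ, H.hα]
    push_cast
    rfl
  have hμn : ∑ ψ ∈ Finset.univ.erase (trivIrr G), n ψ * μ ψ = 1 := by
    have h2 : ∑ i ∈ Finset.range p, permChar G α (x ^ i) = 2 * (p : ℂ) := by
      rw [PrimeDegree.sum_powers_eq (p := p) (χ := permChar G α) (w := 0) fun i hi => by
        rw [permChar, Nat.cast_eq_zero, Nat.card_eq_zero]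
        exact Or.inl ⟨fun c => H.free (D.orderOf_eq (pow_mem hx i)
          (D.pow_ne_one hx hx1 (D.not_dvd_of_mem_erase hi))) c.1 c.2⟩, hπ1]
      ring
    simp only [hπ] at h2
    rw [Finset.sum_comm] at h2
    have h1 : (p : ℂ) * ((∑ χ : Cfsg.IrrCharacter G, n χ * μ χ : ℕ) : ℂ) = (p : ℂ) * ((2 : ℕ) : ℂ) := by
      rw [show (p : ℂ) * ((2 : ℕ) : ℂ) = 2 * (p : ℂ) by push_cast; ring, ← h2]
      push_cast
      rw [Finset.mul_sum]
      refine Finset.sum_congr rfl fun χ _ => ?_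
      rw [← Finset.mul_sum, hμ χ]
      ring
    have h3 : ∑ χ : Cfsg.IrrCharacter G, n χ * μ χ = 2 := by exact_mod_cast mul_left_cancel₀ hpC h1
    rw [← Finset.add_sum_erase _ _ (Finset.mem_univ (trivIrr G)), hn1, hμ1] at h3
    omega
  have hdeg : ∑ ψ ∈ Finset.univ.erase (trivIrr G), n ψ * deg ψ + 1 = 2 * p := by
    have h1 := hπ 1
    rw [hπ1, ← Finset.add_sum_erase _ _ (Finset.mem_univ (trivIrr G)), hn1] at h1
    simp only [← deg_cast, deg_trivIrr] at h1
    have h2 : 2 * p = 1 * 1 + ∑ χ ∈ Finset.univ.erase (trivIrr G), n χ * deg χ := by exact_mod_cast h1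
    omega
  have hle : ∀ ψ ∈ Finset.univ.erase (trivIrr G), n ψ ≤ 1 := fun ψ hψ => by
    by_contra hgt
    have h1 := Finset.single_le_sum (f := fun ψ => n ψ * n ψ) (fun _ _ => Nat.zero_le _) hψ
    have h2 : 2 * 2 ≤ n ψ * n ψ := Nat.mul_le_mul (by omega) (by omega)
    simp only [hsq] at h1
    omega
  set T := (Finset.univ.erase (trivIrr G)).filter fun ψ => n ψ ≠ 0 with hT
  have hT1 : ∀ ψ ∈ T, n ψ = 1 ∧ ψ ≠ trivIrr G := fun ψ hψ => by
    obtain ⟨h1, h2⟩ := Finset.mem_filter.1 hψ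
    have := hle ψ h1
    exact ⟨by omega, Finset.ne_of_mem_erase h1⟩
  have hsumT : ∀ f : Cfsg.IrrCharacter G → ℕ,
      ∑ ψ ∈ Finset.univ.erase (trivIrr G), n ψ * f ψ = ∑ ψ ∈ T, f ψ := fun f => by
    rw [← Finset.sum_filter_of_ne (p := fun ψ => n ψ ≠ 0) (fun ψ _ h => left_ne_zero_of_mul h)]
    exact Finset.sum_congr rfl fun ψ hψ => by rw [(hT1 ψ hψ).1, one_mul]
  rw [hsumT] at hμn hdeg
  have hcard : T.card = 2 := by
    rw [← hsq, hsumT, Finset.sum_congr rfl fun ψ hψ => (hT1 ψ hψ).1, Finset.card_eq_sum_ones]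
  obtain ⟨ψ₀, ψ₁, hne, hT'⟩ := Finset.card_eq_two.1 hcard
  rw [hT', Finset.sum_pair hne] at hμn hdeg
  have hall : ∀ ψ ∈ T, (ψ ∉ Cfsg.principalBlock D.M G ∧ deg ψ = p * μ ψ) ∨
      (ψ ∈ D.X ∧ (deg ψ : ℤ) + ((p : ℤ) - 1) * D.sgn ψ = p * μ ψ) ∨ ψ ∈ D.Y := by
    intro ψ hψ
    have h1 := hμ ψ
    by_cases hB : ψ ∈ Cfsg.principalBlock D.M G
    · rcases (D.mem_block ψ).1 hB with hXm | hYm
      · refine Or.inr (Or.inl ⟨hXm, ?_⟩)
        rw [PrimeDegree.sum_powers_eq (p := p) (w := (D.sgn ψ : ℂ)) fun i hi =>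
          D.val_X' hXm (pow_mem hx i) (D.pow_ne_one hx hx1 (D.not_dvd_of_mem_erase hi)), ← deg_cast] at h1
        exact_mod_cast h1
      · exact Or.inr (Or.inr hYm)
    · refine Or.inl ⟨hB, ?_⟩
      rw [PrimeDegree.sum_powers_eq (p := p) (w := 0) fun i hi =>
        D.eq_zero_of_notMem hC hB (pow_mem hx i) (D.pow_ne_one hx hx1 (D.not_dvd_of_mem_erase hi)),
        ← deg_cast, mul_zero, add_zero] at h1
      exact_mod_cast h1
  have main : ∀ φ φ', φ ∈ T → φ' ∈ T → μ φ = 0 → μ φ' = 1 → deg φ + deg φ' + 1 = 2 * p →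
      φ ∈ D.X ∧ deg φ + 1 = p ∧ D.sgn φ = -1 ∧ φ ≠ trivIrr G := by
    intro φ φ' hφ hφ' h0 h1 hd
    have hne0 := (hT1 φ hφ).2
    have hne1 := (hT1 φ' hφ').2
    have hd0 : 0 < deg φ := charDegree_pos φ
    have hd1' : deg φ' ≠ 1 := deg_ne_one hG hne1
    rcases hall φ hφ with ⟨-, e⟩ | ⟨hXm, e⟩ | hY
    · rw [h0, mul_zero] at e; omega
    · rw [h0, Nat.cast_zero, mul_zero] at e
      rcases D.sgn_eq φ hXm with s | s <;> rw [s] at e
      · omega
      · exact ⟨hXm, by omega, s, hne0⟩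
    exfalso
    rcases hall φ' hφ' with ⟨-, e⟩ | ⟨hXm, e⟩ | hY'
    · rw [h1, mul_one] at e
      obtain ⟨c, hc⟩ := Int.modEq_iff_dvd.1 (D.deg_Y φ hY)
      rw [he] at hc
      have hf : (deg φ : ℤ) = p - 1 := by omega
      rw [hf] at hc
      rcases D.ε_eq with s | s <;> rw [s] at hc <;> push_cast at hc
      · have hdv : (p : ℤ) ∣ 3 := ⟨c + 1, by linear_combination hc⟩
        have := Int.le_of_dvd (by norm_num) hdv
        omega
      · have hdv : (p : ℤ) ∣ 1 := ⟨-(c + 1), by linear_combination -hc⟩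
        have := Int.le_of_dvd (by norm_num) hdv
        omega
    · rw [h1, Nat.cast_one, mul_one] at e
      rcases D.sgn_eq φ' hXm with s | s <;> rw [s] at e <;> omega
    · have := D.deg_Y_eq hY hY'
      omega
  have hcases : (μ ψ₀ = 0 ∧ μ ψ₁ = 1) ∨ (μ ψ₁ = 0 ∧ μ ψ₀ = 1) := by omega
  have hm0 : ψ₀ ∈ T := by rw [hT']; simp
  have hm1 : ψ₁ ∈ T := by rw [hT']; simp
  obtain ⟨χ, hχX, hχd, hχs, hχne⟩ : ∃ χ, χ ∈ D.X ∧ deg χ + 1 = p ∧ D.sgn χ = -1 ∧ χ ≠ trivIrr G :=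
    hcases.elim (fun h => ⟨_, main ψ₀ ψ₁ hm0 hm1 h.1 h.2 (by omega)⟩)
      fun h => ⟨_, main ψ₁ ψ₀ hm1 hm0 h.1 h.2 (by omega)⟩
  have hX : D.X.erase (trivIrr G) = {χ} := by
    obtain ⟨c, hc⟩ := Finset.card_eq_one.1 (show (D.X.erase (trivIrr G)).card = 1 by
      rw [Finset.card_erase_of_mem ht, D.card_X, he])
    have := Finset.mem_erase.2 ⟨hχne, hχX⟩
    rw [hc, Finset.mem_singleton] at this
    rw [hc, this]
  obtain ⟨θ₀, hθ₀⟩ := D.Y_nonempty
  have hrel : D.ε * (deg θ₀ : ℤ) = 1 + D.sgn χ * (deg χ : ℤ) := by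
    rw [D.rel_one hθ₀, ← Finset.add_sum_erase _ _ ht, hts, deg_trivIrr, hX, Finset.sum_singleton]
    push_cast
    ring
  have hεm : D.ε = -1 := by
    rcases D.ε_eq with e | e
    · rw [e, hχs] at hrel
      have : 0 < deg θ₀ := charDegree_pos θ₀
      omega
    · exact e
  exact ⟨⟨D, ht, hts, χ, fun ψ => by rw [and_comm, ← Finset.mem_erase, hX, Finset.mem_singleton],
    hχs, hεm, he, hχd⟩⟩

end Cfsg.Agent.BlocksChars.DegreeTwoP
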