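import Cfsg.Agent.BlocksChars.DegreeTwoP.Char
import Cfsg.Agent.BlocksChars.PrimeDegrees
import Cfsg.Agent.Lib.ZStar.KleinFour
import Cfsg.Agent.Lib.SmallSimple.PSqQR
import Cfsg.Agent.Lib.Blocks.RegularSum

/-!
# Degree `2 p`: involutions and the principal 2-block
-/

set_option autoImplicit false
set_option linter.style.haveILetI false
set_option linter.unusedSectionVars false

namespace Cfsg.Agent.BlocksChars.DegreeTwoP

open Cfsg.Agent.Characters Cfsg.Agent.Blocks Subgroup Cfsg.Agent.PrimeBlock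
open scoped ComplexConjugate

universe u v

variable {G : Type u} [Group G] [Finite G] {α : Type v} [MulAction G α] [Finite α] {p : ℕ}
  [Fact p.Prime] {P : Sylow p G}

theorem Hyp.faithful_χ (H : Hyp α P) (S : Blk P) :
    ∀ g : G, (S.χ : G → ℂ) g = (S.χ : G → ℂ) 1 → g = 1 := by
  haveI := H.isSimpleGroup
  exact (PrimeDegrees.simple_irr (fun h => H.not_comm ⟨⟨h⟩⟩) ((S.hX S.χ).2 rfl).2).1

/-- Every involution is conjugate to one inverting a given element of order `p`. -/
theorem Hyp.exists_inverts (H : Hyp α P) (S : Blk P) {z x : G} (hz : orderOf z = 2)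
    (hx : x ∈ (P : Subgroup G)) (hx1 : x ≠ 1) :
    ∃ c : G, c * z * c⁻¹ * x * (c * z * c⁻¹)⁻¹ = x⁻¹ := by
  classical
  haveI := Fintype.ofFinite G
  haveI := Fintype.ofFinite (Cfsg.IrrCharacter G)
  have hp3 := H.p3
  set D := S.D with hD
  have hzp : ¬ p ∣ orderOf z := by
    rw [hz]; intro h; have := Nat.le_of_dvd two_pos h; omega
  have hz2 : z * z = 1 := by
    have := pow_orderOf_eq_one z; rwa [hz, pow_two] at this
  obtain ⟨a, ha⟩ := ZStar.KleinFour.exists_int_value (irr_isCharacter S.χ) hz2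
  have hχX : S.χ ∈ D.X := ((S.hX S.χ).2 rfl).1
  have hχx : (S.χ : G → ℂ) x = -1 := by
    rw [D.val_X' hχX hx hx1, hD, S.hsgn]; simp
  have hθd : ∀ θ ∈ D.Y, (θ : G → ℂ) 1 = (p : ℂ) - 2 := fun θ hθ => by
    rw [S.Y_regular hθ (by rw [orderOf_one]; exact (Fact.out : p.Prime).not_dvd_one), S.χ_one]
    ring
  have hsum : ∑ χ : Cfsg.IrrCharacter G, (χ : G → ℂ) z * (χ : G → ℂ) z * conj ((χ : G → ℂ) x) /
      (χ : G → ℂ) 1 = 1 - (a : ℂ) * a / ((p : ℂ) - 1) + ((a : ℂ) - 1) * ((a : ℂ) - 1) / ((p : ℂ) - 2) := by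
    rw [Brauer.sum_split D S.ht, S.erase_eq, Finset.sum_singleton,
      Finset.sum_eq_zero (s := Brauer.outside D) fun ψ hψ => by
        rw [D.eq_zero_of_notMem H.card_centralizer ((Brauer.mem_outside D).1 hψ) hx hx1]
        simp,
      Finset.sum_congr (s₁ := D.Y) rfl fun θ hθ => show
        (θ : G → ℂ) z * (θ : G → ℂ) z * conj ((θ : G → ℂ) x) / (θ : G → ℂ) 1 =
          ((a : ℂ) - 1) * ((a : ℂ) - 1) / ((p : ℂ) - 2) * conj ((θ : G → ℂ) x) by
            rw [S.Y_regular hθ hzp, ha, hθd θ hθ]; ring, ← Finset.mul_sum, ← map_sum, D.sum_Y hx hx1,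
      hD, S.hε, ha, hχx, S.χ_one]
    simp only [trivIrr_coe, map_one, map_neg, Int.cast_neg, Int.cast_one, mul_one]
    ring
  by_cases hex : ∃ w : G, IsConj (z * (w * z * w⁻¹)) x
  · obtain ⟨w, hw⟩ := hex
    obtain ⟨c, hc⟩ := isConj_iff.1 hw
    refine ⟨c, ?_⟩
    set u := c * z * c⁻¹ with hu
    set v := c * (w * z * w⁻¹) * c⁻¹ with hv
    have huv : u * v = x := by rw [← hc, hu, hv]; group
    have hconj : ∀ a : G, a * z * a⁻¹ * (a * z * a⁻¹) = 1 := fun a => by
      rw [show a * z * a⁻¹ * (a * z * a⁻¹) = a * (z * z) * a⁻¹ by group, hz2]; group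
    have key : ∀ a b : G, a * a = 1 → b * b = 1 → a * (a * b) * a⁻¹ = (a * b)⁻¹ := fun a b ha hb => by
      rw [mul_inv_rev, inv_eq_of_mul_eq_one_right ha, inv_eq_of_mul_eq_one_right hb, ← mul_assoc, ha,
        one_mul]
    rw [← huv]
    refine key u v (hconj c) ?_
    rw [hv, show c * (w * z * w⁻¹) * c⁻¹ = c * w * z * (c * w)⁻¹ by group]
    exact hconj (c * w)
  · exfalso
    push Not at hex
    have h0 : ∑ w : G, ∑ χ : Cfsg.IrrCharacter G, (χ : G → ℂ) (z * (w * z * w⁻¹)) * conj ((χ : G → ℂ) x) = 0 :=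
      Finset.sum_eq_zero fun w _ => by rw [second_orthogonality, if_neg (hex w)]
    rw [Finset.sum_comm] at h0
    simp only [← Finset.sum_mul] at h0
    rw [Finset.sum_congr rfl fun (χ : Cfsg.IrrCharacter G) _ => show (∑ w : G, (χ : G → ℂ) (z * (w * z * w⁻¹))) *
        conj ((χ : G → ℂ) x) = (Nat.card G : ℂ) *
          ((χ : G → ℂ) z * (χ : G → ℂ) z * conj ((χ : G → ℂ) x) / (χ : G → ℂ) 1) by
        rw [sum_mul_conjugates χ.2]; ring, ← Finset.mul_sum, hsum] at h0
    have h1 := (mul_eq_zero.1 h0).resolve_left natCard_ne_zero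
    have hp1 : (p : ℂ) - 1 ≠ 0 := by
      rw [sub_ne_zero]; exact_mod_cast (show p ≠ 1 by omega)
    have hp2 : (p : ℂ) - 2 ≠ 0 := by
      rw [sub_ne_zero]; exact_mod_cast (show p ≠ 2 by omega)
    field_simp at h1
    have h2 : (((p : ℤ) - 1 - a) ^ 2 : ℤ) = ((0 : ℤ) : ℂ) := by
      push_cast
      linear_combination h1
    have h3 : ((p : ℤ) - 1 - a) ^ 2 = 0 := by exact_mod_cast h2
    have h4 := pow_eq_zero_iff two_ne_zero |>.1 h3
    have h5 : z = 1 := H.faithful_χ S z (by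
      rw [ha, S.χ_one, show a = (p : ℤ) - 1 by omega]; push_cast; ring)
    rw [h5, orderOf_one] at hz
    omega

/-- There is one class of involutions. -/
theorem Hyp.isConj_involutions (H : Hyp α P) (S : Blk P) {z w : G} (hz : orderOf z = 2)
    (hw : orderOf w = 2) : IsConj z w := by
  have hp : p.Prime := Fact.out
  obtain ⟨x, hx1, hx⟩ := S.D.exists_ne_one
  have hxo := S.D.orderOf_eq hx hx1
  obtain ⟨c, hc⟩ := H.exists_inverts S hz hx hx1
  obtain ⟨d, hd⟩ := H.exists_inverts S hw hx hx1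
  set u := c * z * c⁻¹ with hu
  set v := d * w * d⁻¹ with hv
  have hu2 : u * u = 1 := by
    have := pow_orderOf_eq_one z; rw [hz, pow_two] at this
    rw [hu, show c * z * c⁻¹ * (c * z * c⁻¹) = c * (z * z) * c⁻¹ by group, this]; group
  have hui : u⁻¹ = u := inv_eq_of_mul_eq_one_right hu2
  have hvu : v * x * v⁻¹ = u * x * u⁻¹ := hd.trans hc.symm
  have hmem : u⁻¹ * v ∈ (P : Subgroup G) := by
    have hCP : centralizer ((P : Subgroup G) : Set G) = (P : Subgroup G) :=
      (eq_of_le_of_card_ge (by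
        haveI : IsCyclic (P : Subgroup G) := isCyclic_of_prime_card H.card_P
        exact le_centralizer _) (by rw [H.card_centralizer, H.card_P])).symm
    rw [← hCP, ← S.D.centralizer_eq hx hx1, mem_centralizer_singleton_iff]
    calc u⁻¹ * v * x = u⁻¹ * (v * x * v⁻¹) * v := by group
      _ = u⁻¹ * (u * x * u⁻¹) * v := by rw [hvu]
      _ = x * (u⁻¹ * v) := by group
  rw [← S.D.zpowers_eq hx hx1] at hmem
  obtain ⟨l, hl⟩ := mem_powers_iff_mem_zpowers.2 hmem
  have hl' : v = u * x ^ l := by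
    show _ = u * x ^ l
    rw [show x ^ l = u⁻¹ * v from hl]; group
  obtain ⟨k, hk⟩ := hp.odd_of_ne_two S.D.odd
  have hmx : ∀ i : ℕ, x ^ i * u = u * (x ^ i)⁻¹ := fun i => by
    rw [← inv_pow, ← hc, conj_pow]
    simp only [hui, ← mul_assoc, hu2, one_mul]
  have hxp : x ^ (2 * (l * k)) * x ^ l = 1 := by
    rw [← pow_add, show 2 * (l * k) + l = p * l by rw [hk]; ring, pow_mul, ← hxo, pow_orderOf_eq_one,
      one_pow]
  have huv : x ^ (l * k) * u * (x ^ (l * k))⁻¹ = v := by
    rw [hl', hmx, mul_assoc, ← mul_inv_rev, ← pow_add, ← two_mul]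
    rw [inv_eq_of_mul_eq_one_right hxp]
  refine (isConj_iff.2 ⟨c, rfl⟩ : IsConj z u).trans ((isConj_iff.2 ⟨x ^ (l * k), huv⟩ : IsConj u v).trans ?_)
  exact (isConj_iff.2 ⟨d, rfl⟩ : IsConj w v).symm

theorem Hyp.four_dvd (H : Hyp α P) : 4 ∣ Nat.card G := by
  haveI := H.isSimpleGroup
  haveI := Fact.mk Nat.prime_two
  obtain ⟨a⟩ := H.nonempty
  have h2 : 2 ∣ Nat.card G := Dvd.intro (p * Nat.card (MulAction.stabilizer G a)) (by
    rw [← H.stab_mul a]; ring)
  obtain ⟨Q⟩ : Nonempty (Sylow 2 G) := inferInstance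
  have hnc := SmallSimple.PSqQR.minFac_noncyclic H.not_comm Nat.prime_two h2 (fun s hs _ => hs.two_le) Q
  obtain ⟨j, hj⟩ := IsPGroup.iff_card.1 Q.isPGroup'
  rcases j with _ | _ | j
  · exact absurd (by
      haveI : Subsingleton (Q : Subgroup G) := (Nat.card_eq_one_iff_unique.1 (by rw [hj, pow_zero])).1
      exact isCyclic_of_subsingleton) hnc
  · exact absurd (isCyclic_of_prime_card (p := 2) (by rw [hj, pow_one])) hnc
  · exact (Dvd.intro (2 ^ j) (by rw [hj, pow_succ, pow_succ]; ring)).trans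
      (card_subgroup_dvd_card (Q : Subgroup G))

theorem fixedBy_conj_card (c z : G) :
    Nat.card (MulAction.fixedBy α (c * z * c⁻¹)) = Nat.card (MulAction.fixedBy α z) :=
  Nat.card_congr {
    toFun := fun b => ⟨c⁻¹ • (b : α), by
      have := MulAction.mem_fixedBy.1 b.2
      rw [MulAction.mem_fixedBy]
      rw [mul_smul, mul_smul, ← eq_inv_smul_iff] at this
      exact this⟩
    invFun := fun b => ⟨c • (b : α), by
      rw [MulAction.mem_fixedBy, mul_smul, mul_smul, inv_smul_smul, MulAction.mem_fixedBy.1 b.2]⟩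
    left_inv := fun b => by simp
    right_inv := fun b => by simp }

/-- Every involution fixes two points. -/
theorem Hyp.card_fixedBy (H : Hyp α P) (S : Blk P) {z : G} (hz : orderOf z = 2) :
    Nat.card (MulAction.fixedBy α z) = 2 := by
  classical
  haveI := Fintype.ofFinite α
  haveI := Fact.mk Nat.prime_two
  obtain ⟨x, hx1, hx⟩ := S.D.exists_ne_one
  obtain ⟨c, hc⟩ := H.exists_inverts S hz hx hx1
  have hle : Nat.card (MulAction.fixedBy α z) ≤ 2 :=
    fixedBy_conj_card (α := α) c z ▸ H.card_fixedBy_le (S.D.orderOf_eq hx hx1) hc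
  obtain ⟨a⟩ := H.nonempty
  have hpos : 0 < Nat.card (MulAction.fixedBy α z) := by
    obtain ⟨c, hc⟩ := H.four_dvd
    have h2 : 2 ∣ Nat.card (MulAction.stabilizer G a) := by
      have h1 : 2 * p * Nat.card (MulAction.stabilizer G a) = 2 * (2 * c) := by
        rw [H.stab_mul a, hc]; ring
      rw [mul_assoc] at h1
      exact (Nat.Coprime.dvd_of_dvd_mul_left ((Fact.out : p.Prime).odd_of_ne_two S.D.odd).coprime_two_left
        (Dvd.intro c (Nat.eq_of_mul_eq_mul_left two_pos h1).symm))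
    obtain ⟨⟨w, hw⟩, hwo⟩ := exists_prime_orderOf_dvd_card' (G := MulAction.stabilizer G a) 2 h2
    rw [orderOf_mk] at hwo
    obtain ⟨d, hd⟩ := isConj_iff.1 (H.isConj_involutions S hwo hz)
    rw [← hd, fixedBy_conj_card]
    exact Nat.card_pos_iff.2 ⟨⟨⟨a, hw⟩⟩, inferInstance⟩
  have heven : Nat.card (MulAction.fixedBy α z) % 2 = 0 := by
    have hz2 : (MulAction.toPerm z : Equiv.Perm α) ^ 2 ^ 1 = 1 := by
      ext b
      rw [pow_one, pow_two, Equiv.Perm.mul_apply, MulAction.toPerm_apply, MulAction.toPerm_apply,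
        ← mul_smul, ← pow_two, ← hz, pow_orderOf_eq_one, one_smul]
      rfl
    have h1 := Equiv.Perm.card_compl_support_modEq (p := 2) hz2
    have h2 : Nat.card (MulAction.fixedBy α z) = (MulAction.toPerm z : Equiv.Perm α).supportᶜ.card := by
      rw [Nat.card_eq_fintype_card, Fintype.card_subtype]
      congr 1
      ext b
      simp [MulAction.mem_fixedBy]
    rw [h2]
    rw [Nat.ModEq, ← Nat.card_eq_fintype_card, H.hα] at h1
    omega
  omega

/-- The exceptional characters lie in the principal 2-block. -/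
theorem Hyp.mem_principal_two (H : Hyp α P) (S : Blk P) {M : Ideal Cfsg.AlgInt}
    (hM : Cfsg.IsPModular 2 M) {z : G} (hz : orderOf z = 2) :
    ∀ θ ∈ S.D.Y, θ ∈ Cfsg.principalBlock M G := by
  classical
  haveI := Fintype.ofFinite G
  haveI := Fintype.ofFinite (Cfsg.IrrCharacter G)
  have hp : p.Prime := Fact.out
  have hp3 := H.p3
  set D := S.D with hD
  obtain ⟨x₀, hx₀1, hx₀⟩ := D.exists_ne_one
  have hzp : ¬ p ∣ orderOf z := by
    rw [hz]; intro h; have := Nat.le_of_dvd two_pos h; omega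
  have hz2 : z * z = 1 := by
    have := pow_orderOf_eq_one z; rwa [hz, pow_two] at this
  obtain ⟨a, ha⟩ := ZStar.KleinFour.exists_int_value (irr_isCharacter S.χ) hz2
  have haeven : Even a := by
    obtain ⟨m, hm⟩ := sum_powers (irr_isCharacter S.χ) two_ne_zero (x := z)
      (by rw [← hz, pow_orderOf_eq_one])
    rw [Finset.sum_range_succ, Finset.sum_range_one, pow_zero, pow_one, S.χ_one, ha] at hm
    have hm' : (p : ℤ) - 1 + a = 2 * m := by exact_mod_cast hm
    obtain ⟨k, hk⟩ := hp.odd_of_ne_two D.odd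
    exact ⟨(m : ℤ) - k, by omega⟩
  set t : Cfsg.IrrCharacter G → ℂ := fun ψ => if ψ ∈ Cfsg.principalBlock M G then 1 else 0 with ht
  set c : ℂ := if S.χ ∈ Cfsg.principalBlock M G then (a : ℂ) else 0 with hc
  have hc1 : (1 : ℂ) - c ≠ 0 := by
    rw [hc]
    split_ifs
    · rw [sub_ne_zero]
      intro e
      have e' : a = 1 := by exact_mod_cast e.symm
      subst e'
      exact absurd haeven (by decide)
    · simp
  -- constant partial sums on `P`
  have hrel : ∀ y ∈ (P : Subgroup G), y ≠ 1 →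
      ((a : ℂ) - 1) * ∑ θ ∈ D.Y, t θ * (θ : G → ℂ) y = -(1 - c) := by
    intro y hy hy1
    have hyo := D.orderOf_eq hy hy1
    have hy2 : ¬ 2 ∣ orderOf y := by
      rw [hyo]; intro h
      exact absurd ((Nat.prime_dvd_prime_iff_eq Nat.prime_two hp).1 h) (by omega)
    have h := sum_block_reg_sing hM (intEl_blockIdem hM (isPBlock_principal M G)) hy2
      (show 2 ∣ orderOf z by rw [hz])
    rw [finsum_mem_eq_finite_toFinset_sum _ (Set.toFinite _)] at h
    have h' : ∑ ψ : Cfsg.IrrCharacter G, t ψ * ((ψ : G → ℂ) y * conj ((ψ : G → ℂ) z)) = 0 := by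
      rw [← h]
      simp only [ht, ite_mul, one_mul, zero_mul]
      rw [← Finset.sum_filter]
      exact Finset.sum_congr (by ext; simp) fun _ _ => rfl
    rw [Brauer.sum_split D S.ht, S.erase_eq, Finset.sum_singleton,
      Finset.sum_eq_zero (s := Brauer.outside D) fun ψ hψ => by
        rw [D.eq_zero_of_notMem H.card_centralizer ((Brauer.mem_outside D).1 hψ) hy hy1]
        simp,
      Finset.sum_congr (s₁ := D.Y) rfl fun θ hθ => show
        t θ * ((θ : G → ℂ) y * conj ((θ : G → ℂ) z)) = ((a : ℂ) - 1) * (t θ * (θ : G → ℂ) y) by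
          rw [S.Y_regular hθ hzp, ha]; simp; ring, ← Finset.mul_sum,
      D.val_X' ((S.hX S.χ).2 rfl).1 hy hy1, hD, S.hsgn, ha] at h'
    have htt : t (trivIrr G) = 1 := by simp [ht, trivIrr_mem_principal hM]
    have htc : t S.χ * (a : ℂ) = c := by simp [ht, hc]
    rw [htt] at h'
    simp only [trivIrr_coe, map_one, mul_one, Int.cast_neg, Int.cast_one, map_intCast, add_zero] at h'
    rw [hD]
    linear_combination h' + htc
  set w : ℂ := -(1 - c) / ((a : ℂ) - 1) with hw
  have ha1 : (a : ℂ) - 1 ≠ 0 := by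
    rw [sub_ne_zero]
    intro e
    have e' : a = 1 := by exact_mod_cast e
    subst e'
    exact absurd haeven (by decide)
  have hw0 : w ≠ 0 := div_ne_zero (neg_ne_zero.2 hc1) ha1
  set Δ : G → ℂ := fun g => ∑ θ ∈ D.Y, (t θ - w) * (θ : G → ℂ) g with hΔ
  set K : ℂ := ∑ θ ∈ D.Y, (t θ - w) with hK
  have hcard : 2 * (D.Y.card : ℂ) + 1 = p := by
    obtain ⟨k, hk⟩ := hp.odd_of_ne_two D.odd
    rw [D.card_Y, hD, S.he, hk, show (2 * k + 1 - 1) / 2 = k by omega]
    push_cast; ring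
  have hpt : ∀ g : G, (p : ℂ) * Δ g =
      K * (2 * ∑ θ ∈ D.Y, (θ : G → ℂ) g + (S.χ : G → ℂ) g - 1) := by
    intro g
    by_cases hg : p ∣ orderOf g
    · obtain ⟨-, y, hy, hy1, hconj⟩ := Brauer.singular D H.card_centralizer hg
      have hval : ∀ ψ : Cfsg.IrrCharacter G, (ψ : G → ℂ) g = (ψ : G → ℂ) y := fun ψ => by
        obtain ⟨d, hd⟩ := isConj_iff.1 hconj
        rw [← hd]
        exact irr_isClassFunction ψ y d
      have h0 : Δ g = 0 := by
        simp only [hΔ, hval, sub_mul, Finset.sum_sub_distrib]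
        rw [← Finset.mul_sum, D.sum_Y hy hy1, show D.ε = -1 from S.hε, show ∑ θ ∈ D.Y, t θ * (θ : G → ℂ) y = w by
          rw [hw, eq_div_iff ha1, mul_comm, hrel y hy hy1]]
        simp
      rw [h0, hval, D.val_X' ((S.hX S.χ).2 rfl).1 hy hy1, Finset.sum_congr rfl fun θ _ => hval θ,
        D.sum_Y hy hy1, hD, S.hε, S.hsgn]
      push_cast
      ring
    · rw [hΔ]
      dsimp only
      rw [Finset.sum_congr rfl fun θ hθ => by rw [S.Y_regular hθ hg],
        ← Finset.sum_mul, Finset.sum_congr (s₁ := D.Y) rfl fun θ hθ => S.Y_regular hθ hg,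
        Finset.sum_const, nsmul_eq_mul, ← hcard]
      ring
  -- the multiplicity of the principal character
  have horth : ∀ ψ : Cfsg.IrrCharacter G, ψ ≠ trivIrr G → ∑ g : G, (ψ : G → ℂ) g = 0 := fun ψ hψ => by
    have h0 := classInner_isIrr_ne ψ.2 (trivIrr G).2 (fun e => hψ (Subtype.ext e))
    rw [classInner_def] at h0
    simp only [trivIrr_coe, map_one, mul_one] at h0
    exact (mul_eq_zero.1 h0).resolve_left (inv_ne_zero natCard_ne_zero)
  have hYne : ∀ θ ∈ D.Y, θ ≠ trivIrr G := fun θ hθ e => Finset.disjoint_left.1 D.disj S.ht (e ▸ hθ)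
  have hY0 : ∀ θ ∈ D.Y, ∑ g : G, (θ : G → ℂ) g = 0 := fun θ hθ => horth θ (hYne θ hθ)
  have hK0 : K = 0 := by
    have h1 : ∑ g : G, (p : ℂ) * Δ g = 0 := by
      rw [← Finset.mul_sum]
      simp only [hΔ]
      rw [Finset.sum_comm, Finset.sum_eq_zero fun θ hθ => by rw [← Finset.mul_sum, hY0 θ hθ, mul_zero],
        mul_zero]
    simp only [hpt] at h1
    rw [← Finset.mul_sum, Finset.sum_sub_distrib, Finset.sum_add_distrib, ← Finset.mul_sum,
      Finset.sum_comm, Finset.sum_eq_zero hY0, horth _ ((S.hX S.χ).2 rfl).2, Finset.sum_const,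
      Finset.card_univ, nsmul_eq_mul, mul_one, mul_zero, zero_add, zero_sub, mul_neg, neg_eq_zero,
      mul_eq_zero] at h1
    exact h1.resolve_right (Nat.cast_ne_zero.2 Fintype.card_ne_zero)
  have hΔ0 : ∀ g, Δ g = 0 := fun g => by
    have := hpt g
    rw [hK0, zero_mul] at this
    exact (mul_eq_zero.1 this).resolve_left (Nat.cast_ne_zero.2 hp.ne_zero)
  intro θ hθ
  by_contra hno
  have h1 := classInner_sum_smul_irr (c := fun ψ : Cfsg.IrrCharacter G => t ψ - w) D.Y θ
  rw [if_pos hθ, show (∑ ψ ∈ D.Y, (t ψ - w) • (ψ : G → ℂ)) = fun _ => 0 from funext fun g => by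
    simpa [Finset.sum_apply] using hΔ0 g] at h1
  simp [classInner_def, ht, hno] at h1
  exact hw0 h1

end Cfsg.Agent.BlocksChars.DegreeTwoP
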