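import Cfsg.Agent.BlocksChars.DegreeTwoP.Sylow
import Cfsg.Agent.Lib.CharTheory.DihedralPrincipal.Main
import Cfsg.Agent.Lib.ZStar.KleinFour
import Cfsg.Agent.BlockCharsA.DefectZeroVanish
import Cfsg.Agent.BlocksChars.CofactorFourThree.Klein

/-!
# Degree `2 p`: the exceptional characters lie in a small principal block at `2`
-/

set_option autoImplicit false
set_option linter.style.haveILetI false
set_option linter.unusedSectionVars false

namespace Cfsg.Agent.BlocksChars.DegreeTwoP

open Subgroup Cfsg.Agent.Characters Cfsg.Agent.CharTheory.DihedralPrincipal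

universe u v

variable {G : Type u} [Group G] [Finite G] {α : Type v} [MulAction G α] [Finite α] {p : ℕ}
  [Fact p.Prime] {P : Sylow p G}

/-- Two of the values `ζ ^ j + ζ ^ (-j)` with `0 < j, k < m` agree only when `j = k`. -/
theorem gv_one_inj {ζ : ℂ} {m j k : ℕ} (hζ : IsPrimitiveRoot ζ (2 * m)) (hjm : j < m)
    (hk : 0 < k) (hkm : k < m) (h : gv ζ j 1 = gv ζ k 1) : j = k := by
  simp only [gv, mul_one] at h
  have h0 : ζ ≠ 0 := hζ.ne_zero (by omega)
  have hj0 : ζ ^ j ≠ 0 := pow_ne_zero j h0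
  have hk0 : ζ ^ k ≠ 0 := pow_ne_zero k h0
  have h1 : (ζ ^ j - ζ ^ k) * (ζ ^ j * ζ ^ k - 1) = 0 := by
    field_simp at h
    linear_combination h
  rcases mul_eq_zero.1 h1 with h2 | h2
  · exact hζ.pow_inj (by omega) (by omega) (sub_eq_zero.1 h2)
  · have h3 := hζ.pow_inj (i := j + k) (j := 0) (by omega) (by omega)
      (by rw [pow_add, sub_eq_zero.1 h2, pow_zero])
    omega

/-- The parameter `n` is `1`. -/
theorem Hyp.param_eq_one (H : Hyp α P) {n : ℕ} (hn0 : 0 < n) (hn : p = 2 * n ^ 2 + 2 * n + 1)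
    (hsz : ∀ a b : α, b ≠ a → Nat.card (MulAction.orbit (MulAction.stabilizer G a) b) = n * (2 * n + 1) ∨
      Nat.card (MulAction.orbit (MulAction.stabilizer G a) b) = (n + 1) * (2 * n + 1)) :
    n = 1 ∧ ∃ Q : Sylow 2 G, Nat.card (Q : Subgroup G) ∣ 4 := by
  classical
  haveI := Fintype.ofFinite G
  haveI := Fintype.ofFinite (Cfsg.IrrCharacter G)
  haveI := H.isSimpleGroup
  haveI := Fact.mk Nat.prime_two
  obtain ⟨S⟩ := exists_blk H
  obtain ⟨M, hM⟩ := BlockCharsA.DefectZeroVanish.exists_modular Nat.prime_two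
  obtain ⟨z, hz⟩ := exists_prime_orderOf_dvd_card' (G := G) 2
    ((dvd_mul_right 2 2).trans H.four_dvd)
  have hY2 := H.mem_principal_two S hM hz
  have hYc : S.D.Y.card = n * (n + 1) := by
    rw [S.D.card_Y, S.he, hn, show 2 * n ^ 2 + 2 * n + 1 - 1 = 2 * (n * (n + 1)) by
      rw [Nat.add_sub_cancel]; ring, Nat.mul_div_cancel_left _ two_pos]
  have hYt : trivIrr G ∉ S.D.Y := fun h => Finset.disjoint_left.1 S.D.disj S.ht h
  obtain ⟨Q, hQd, hQ⟩ := H.sylow_shape S hn hsz
  have hle : n * (n + 1) ≤ 4 := by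
    rw [← hYc]
    rcases hQ with hV | ⟨σ, τ, m, hD⟩
    · obtain ⟨B, a, hB, hB4, -⟩ := ZStar.KleinFour.principal Q hV
        (fun s t hs ht => H.isConj_involutions S hs ht) hM
      exact hB4 ▸ Finset.card_le_card fun θ hθ => (hB θ).2 (hY2 θ hθ)
    · have hζ := Complex.isPrimitiveRoot_exp (2 * m) (by have := hD.pos; omega)
      obtain ⟨c1, c2, c3, d1, d2, d3, X, hP⟩ := exists_principal hD hM hζ
      set Z := S.D.Y.filter fun θ => θ ∉ ({c1, c2, c3} : Finset (Cfsg.IrrCharacter G)) with hZ
      have hsub : S.D.Y ⊆ {c1, c2, c3} ∪ Z := fun θ hθ => by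
        by_cases h : θ ∈ ({c1, c2, c3} : Finset (Cfsg.IrrCharacter G))
        · exact Finset.mem_union_left _ h
        · exact Finset.mem_union_right _ (Finset.mem_filter.2 ⟨hθ, h⟩)
      have hZ1 : Z.card ≤ 1 := by
        refine Finset.card_le_one.2 fun θ hθ θ' hθ' => ?_
        obtain ⟨hθY, hθn⟩ := Finset.mem_filter.1 hθ
        obtain ⟨hθY', hθn'⟩ := Finset.mem_filter.1 hθ'
        have key : ∀ φ ∈ S.D.Y, φ ∉ ({c1, c2, c3} : Finset (Cfsg.IrrCharacter G)) →
            ∃ j, 0 < j ∧ j < m ∧ φ = X j := fun φ hφ hn' => by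
          simp only [Finset.mem_insert, Finset.mem_singleton, not_or] at hn'
          rcases (hP.mem φ).1 (hY2 φ hφ) with rfl | h | h | h | h
          · exact absurd hφ hYt
          · exact absurd h hn'.1
          · exact absurd h hn'.2.1
          · exact absurd h hn'.2.2
          · exact h
        obtain ⟨j, hj, hjm, rfl⟩ := key θ hθY hθn
        obtain ⟨k, hk, hkm, rfl⟩ := key θ' hθY' hθn'
        have hσ : ¬ p ∣ orderOf (σ ^ 1) := by
          obtain ⟨e, he⟩ := hD.m_pow
          rw [pow_one, hD.order_σ, he, ← pow_succ']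
          intro h
          have := (Nat.prime_dvd_prime_iff_eq (Fact.out : p.Prime) Nat.prime_two).1
            ((Fact.out : p.Prime).dvd_of_dvd_pow h)
          have := H.p3
          omega
        have h := S.D.same _ hθY _ hθY' (σ ^ 1) hσ
        rw [hP.valX j hj hjm 1 one_pos (by omega), hP.valX k hk hkm 1 one_pos (by omega)] at h
        rw [gv_one_inj hζ hjm hk hkm (mul_left_cancel₀ (fun e => by
          have := hP.sq1
          rw [Int.cast_eq_zero.1 e] at this
          simp at this) h)]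
      calc S.D.Y.card ≤ ({c1, c2, c3} ∪ Z).card := Finset.card_le_card hsub
        _ ≤ _ := Finset.card_union_le _ _
        _ ≤ 3 + 1 := add_le_add Finset.card_le_three hZ1
  have hn1 : n = 1 := by
    rcases Nat.lt_or_ge n 2 with h | h
    · omega
    · have := Nat.mul_le_mul h (show 3 ≤ n + 1 by omega)
      omega
  refine ⟨hn1, Q, ?_⟩
  rw [hn1] at hQd
  exact hQd

/-- The group has order `60`. -/
theorem Hyp.card_eq_sixty (H : Hyp α P) {n : ℕ} (hn0 : 0 < n) (hn : p = 2 * n ^ 2 + 2 * n + 1)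
    (hsz : ∀ a b : α, b ≠ a → Nat.card (MulAction.orbit (MulAction.stabilizer G a) b) = n * (2 * n + 1) ∨
      Nat.card (MulAction.orbit (MulAction.stabilizer G a) b) = (n + 1) * (2 * n + 1)) :
    p = 5 ∧ Nat.card G = 60 := by
  classical
  haveI := Fintype.ofFinite α
  haveI := H.faith
  haveI := H.isSimpleGroup
  haveI := Fact.mk Nat.prime_two
  obtain ⟨hn1, Q, hQ⟩ := H.param_eq_one hn0 hn hsz
  subst hn1
  have hp5 : p = 5 := by rw [hn]; norm_num
  refine ⟨hp5, ?_⟩
  obtain ⟨a⟩ := H.nonempty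
  have hst := H.stab_mul a
  have hns := H.not_dvd_stab a
  rw [hp5] at hst hns
  have h4 : ¬ 8 ∣ Nat.card G := fun h => by
    have h8 : 2 ^ 3 ∣ Nat.card (Q : Subgroup G) := Q.pow_dvd_card_of_pow_dvd_card (by norm_num; exact h)
    have := Nat.le_of_dvd (by norm_num) (h8.trans hQ)
    norm_num at this
  obtain ⟨d, hd⟩ := H.four_dvd
  obtain ⟨d', rfl⟩ : 5 ∣ d := (Nat.Coprime.dvd_of_dvd_mul_left (by norm_num : Nat.Coprime 5 4)
    (hd ▸ Dvd.intro (2 * Nat.card (MulAction.stabilizer G a)) (by rw [← hst]; ring)))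
  have hd0 : d' ≠ 0 := fun e => by
    have := Nat.card_pos (α := G)
    rw [hd, e] at this
    omega
  have hfac : Nat.card G ∣ Nat.factorial 10 := by
    have hinj : Function.Injective (MulAction.toPermHom G α) := fun g h e =>
      FaithfulSMul.eq_of_smul_eq_smul (α := α) fun c => DFunLike.congr_fun e c
    have := Subgroup.card_dvd_of_injective _ hinj
    rwa [Nat.card_perm, H.hα, hp5] at this
  have h7 : ¬ 7 ∣ Nat.card (MulAction.stabilizer G a) := fun h => by
    haveI := Fact.mk (show Nat.Prime 7 by norm_num)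
    obtain ⟨g, hg⟩ := exists_prime_orderOf_dvd_card' 7 h
    have h1 : (g : G) = 1 := FaithfulSMul.eq_of_smul_eq_smul (α := α) fun b => by
      rw [one_smul]
      by_cases hba : b = a
      · rw [hba]; exact g.2
      have hle : (MulAction.orbit (Subgroup.zpowers g) b).ncard ≤ 6 := by
        refine (Set.ncard_le_ncard (t := MulAction.orbit (MulAction.stabilizer G a) b) ?_).trans ?_
        · rintro _ ⟨x, rfl⟩
          exact ⟨x.1, rfl⟩
        · rw [← Nat.card_coe_set_eq]
          rcases hsz a b hba with e | e <;> rw [e] <;> norm_num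
      have hdvd : (MulAction.orbit (Subgroup.zpowers g) b).ncard ∣ 7 := by
        rw [← hg, ← Nat.card_zpowers g, ← Nat.card_coe_set_eq,
          Nat.card_congr (MulAction.orbitEquivQuotientStabilizer (Subgroup.zpowers g) b)]
        exact Subgroup.card_quotient_dvd_card _
      rcases (Nat.dvd_prime (by norm_num : Nat.Prime 7)).1 hdvd with e | e
      · obtain ⟨c, hc⟩ := Set.ncard_eq_one.1 e
        have hb : b ∈ MulAction.orbit (Subgroup.zpowers g) b := MulAction.mem_orbit_self b
        have hgb : (g : G) • b ∈ MulAction.orbit (Subgroup.zpowers g) b :=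
          ⟨⟨g, Subgroup.mem_zpowers g⟩, rfl⟩
        rw [hc, Set.mem_singleton_iff] at hb hgb
        exact hgb.trans hb.symm
      · omega
    have : g = 1 := Subtype.ext h1
    rw [this, orderOf_one] at hg
    omega
  have h3 : ∀ q, q.Prime → q ∣ d' → q = 3 := fun q hq hqd => by
    have hqG : q ∣ Nat.card G := hd ▸ (hqd.mul_left 5).mul_left 4
    have hq10 := hq.dvd_factorial.1 (hqG.trans hfac)
    have := hq.two_le
    interval_cases q
    case _ => exact absurd (hd ▸ (show 8 ∣ 4 * (5 * d') by omega)) h4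
    case _ => rfl
    case _ => exact absurd hq (by norm_num)
    case _ =>
      refine absurd ?_ hns
      obtain ⟨c, rfl⟩ := hqd
      exact ⟨2 * c, by omega⟩
    case _ => exact absurd hq (by norm_num)
    case _ =>
      refine absurd ?_ h7
      obtain ⟨c, rfl⟩ := hqd
      exact ⟨2 * c, by omega⟩
    all_goals exact absurd hq (by norm_num)
  have hk := Nat.eq_prime_pow_of_unique_prime_dvd hd0 fun {q} hq hqd => h3 q hq hqd
  refine CofactorFourThree.four_case (fun h => H.not_comm ⟨⟨h⟩⟩) (p := 3) (q := 5)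
    (a := d'.primeFactorsList.length) (b := 1) (by norm_num) (by norm_num) (by norm_num) (by norm_num) ?_
  rw [hd, ← hk, pow_one, mul_comm d' 5]

end Cfsg.Agent.BlocksChars.DegreeTwoP
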