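import Mathlib.GroupTheory.GroupAction.Primitive
import Cfsg.Agent.Lib.PrimeBlock.PrimeDegree.Setup

/-!
# Degree `2 p` and a Sylow normalizer of order `2 p`: first properties
-/

set_option autoImplicit false
set_option linter.style.haveILetI false
set_option linter.unusedSectionVars false

namespace Cfsg.Agent.BlocksChars.DegreeTwoP

open Cfsg.Agent.SmallSimple Subgroup

universe u v

variable {G : Type u} [Group G] [Finite G] {α : Type v} [MulAction G α] [Finite α] {p : ℕ}
  [Fact p.Prime]

/-- A primitive group of rank three and degree `2 p` with a Sylow normalizer of order `2 p`. -/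
structure Hyp (α : Type v) [MulAction G α] (P : Sylow p G) : Prop where
  p3 : 3 < p
  hα : Nat.card α = 2 * p
  faith : FaithfulSMul G α
  prim : MulAction.IsPreprimitive G α
  hN : Nat.card (normalizer ((P : Subgroup G) : Set G)) = 2 * p
  rank : ∀ a : α, Nat.card (MulAction.orbitRel.Quotient (MulAction.stabilizer G a) α) = 3

variable {P : Sylow p G}

theorem Hyp.nonempty (H : Hyp α P) : Nonempty α :=
  (Nat.card_pos_iff.1 (by rw [H.hα]; have := H.p3; omega)).1

theorem Hyp.pretrans (H : Hyp α P) : MulAction.IsPretransitive G α := H.prim.toIsPretransitive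

theorem Hyp.stab_mul (H : Hyp α P) (a : α) :
    2 * p * Nat.card (MulAction.stabilizer G a) = Nat.card G := by
  haveI := H.pretrans
  rw [← H.hα, ← MulAction.index_stabilizer_of_transitive G a]
  exact index_mul_card _

theorem Hyp.card_P (H : Hyp α P) : Nat.card (P : Subgroup G) = p := by
  have hp : p.Prime := Fact.out
  obtain ⟨a⟩ := H.nonempty
  have hpn : p ∣ Nat.card G := Dvd.intro (2 * Nat.card (MulAction.stabilizer G a)) (by
    rw [← H.stab_mul a]; ring)
  have hd : Nat.card (P : Subgroup G) ∣ 2 * p := H.hN ▸ card_dvd_of_le le_normalizer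
  rw [P.card_eq_multiplicity] at hd ⊢
  have h1 : 0 < (Nat.card G).factorization p := hp.factorization_pos_of_dvd Nat.card_pos.ne' hpn
  rcases (show (Nat.card G).factorization p = 1 ∨ 2 ≤ (Nat.card G).factorization p by omega) with
    e | e
  · rw [e, pow_one]
  · exfalso
    have h2 : p * p ∣ 2 * p := (by rw [← pow_two]; exact pow_dvd_pow p e : p * p ∣ _).trans hd
    have := Nat.le_of_dvd two_pos (Nat.dvd_of_mul_dvd_mul_right hp.pos h2)
    have := H.p3
    omega

theorem Hyp.not_dvd_stab (H : Hyp α P) (a : α) : ¬ p ∣ Nat.card (MulAction.stabilizer G a) := by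
  intro ⟨c, hc⟩
  have hp : p.Prime := Fact.out
  have h2 : p ^ 2 ∣ Nat.card G := ⟨2 * c, by rw [← H.stab_mul a, hc]; ring⟩
  rw [hp.pow_dvd_iff_le_factorization Nat.card_pos.ne'] at h2
  have h1 := H.card_P
  rw [P.card_eq_multiplicity] at h1
  have := Nat.pow_right_injective hp.two_le (h1.trans (pow_one p).symm)
  omega

/-- Elements of order `p` fix no point. -/
theorem Hyp.free (H : Hyp α P) {g : G} (hg : orderOf g = p) (a : α) : g • a ≠ a := fun h =>
  H.not_dvd_stab a (hg ▸ orderOf_mk g (show g ∈ MulAction.stabilizer G a from h) ▸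
    orderOf_dvd_natCard (⟨g, h⟩ : MulAction.stabilizer G a))

theorem Hyp.eq_bot_of_coprime (H : Hyp α P) (K : Subgroup G) [hK : K.Normal]
    (hKp : ¬ p ∣ Nat.card K) : K = ⊥ := by
  haveI := H.prim
  haveI := H.faith
  by_contra hne
  have hfix : MulAction.fixedPoints K α ≠ Set.univ := fun e => hne ((eq_bot_iff_forall K).2 fun g hg =>
    FaithfulSMul.eq_of_smul_eq_smul (α := α) fun a => by
      have ha : a ∈ MulAction.fixedPoints K α := e ▸ Set.mem_univ a
      rw [one_smul]
      exact ha ⟨g, hg⟩)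
  haveI := MulAction.IsQuasiPreprimitive.isPretransitive_of_normal hfix
  obtain ⟨a⟩ := H.nonempty
  refine hKp (Dvd.intro (2 * Nat.card (MulAction.stabilizer K a)) ?_)
  rw [← index_mul_card (MulAction.stabilizer K a), MulAction.index_stabilizer_of_transitive, H.hα]
  ring

theorem Hyp.not_normal (H : Hyp α P) (hP : (P : Subgroup G).Normal) : False := by
  haveI := H.prim
  haveI := H.faith
  have hne : (P : Subgroup G) ≠ ⊥ := fun e => by
    have := H.card_P
    rw [e, card_bot] at this
    exact (Fact.out : p.Prime).ne_one this.symm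
  have hfix : MulAction.fixedPoints (P : Subgroup G) α ≠ Set.univ := fun e =>
    hne ((eq_bot_iff_forall _).2 fun g hg => FaithfulSMul.eq_of_smul_eq_smul (α := α) fun a => by
      have ha : a ∈ MulAction.fixedPoints (P : Subgroup G) α := e ▸ Set.mem_univ a
      rw [one_smul]
      exact ha ⟨g, hg⟩)
  haveI := MulAction.IsQuasiPreprimitive.isPretransitive_of_normal hfix
  obtain ⟨a⟩ := H.nonempty
  have h := index_mul_card (MulAction.stabilizer (P : Subgroup G) a)
  rw [MulAction.index_stabilizer_of_transitive, H.hα, H.card_P] at h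
  have := H.p3
  have := Nat.le_mul_of_pos_right (2 * p) (Nat.card_pos (α := MulAction.stabilizer (P : Subgroup G) a))
  omega

/-- The group is simple. -/
theorem Hyp.isSimpleGroup (H : Hyp α P) : IsSimpleGroup G := by
  classical
  have hp : p.Prime := Fact.out
  have hP := H.card_P
  haveI : Nontrivial G := by
    rw [← Finite.one_lt_card_iff_nontrivial]
    calc 1 < p := hp.one_lt
      _ = Nat.card (P : Subgroup G) := hP.symm
      _ ≤ Nat.card G := Nat.le_of_dvd Nat.card_pos (card_subgroup_dvd_card _)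
  refine ⟨fun K hK => ?_⟩
  by_cases hbot : K = ⊥
  · exact Or.inl hbot
  right
  haveI := hK
  have hpK : p ∣ Nat.card K := by
    by_contra h
    exact hbot (H.eq_bot_of_coprime K h)
  have hPK : (P : Subgroup G) ≤ K := by
    obtain ⟨⟨h, hh⟩, hho⟩ := exists_prime_orderOf_dvd_card' (G := K) p hpK
    rw [orderOf_mk] at hho
    obtain ⟨Q, hQ⟩ := (IsPGroup.of_card (p := p) (n := 1) (by rw [Nat.card_zpowers, hho, pow_one]) :
      IsPGroup p (zpowers h)).exists_le_sylow
    have hQc : Nat.card (Q : Subgroup G) = p := by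
      rw [Q.card_eq_multiplicity, ← P.card_eq_multiplicity, hP]
    have hQK : (Q : Subgroup G) ≤ K := by
      rw [← eq_of_le_of_card_ge hQ (by rw [Nat.card_zpowers, hho, hQc])]
      exact zpowers_le.2 hh
    obtain ⟨c, hc⟩ := MulAction.exists_smul_eq G Q P
    rw [← hc, Sylow.coe_subgroup_smul]
    rintro _ ⟨z, hz, rfl⟩
    exact hK.conj_mem z (hQK hz) c
  have hsup : normalizer ((P : Subgroup G) : Set G) ⊔ K = ⊤ := by
    have := Sylow.normalizer_sup_eq_top (N := K) (P.subtype hPK)
    rwa [Sylow.coe_subtype, Subgroup.map_subgroupOf_eq_of_le hPK] at this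
  by_cases hNK : normalizer ((P : Subgroup G) : Set G) ≤ K
  · rw [sup_eq_right.2 hNK] at hsup
    exact hsup
  exfalso
  have hle : normalizer ((P : Subgroup G) : Set G) ⊓ K ≤ (P : Subgroup G) := by
    have hd : Nat.card ↥(normalizer ((P : Subgroup G) : Set G) ⊓ K) ∣ 2 * p :=
      H.hN ▸ card_dvd_of_le inf_le_left
    have hPle : (P : Subgroup G) ≤ normalizer ((P : Subgroup G) : Set G) ⊓ K :=
      le_inf le_normalizer hPK
    obtain ⟨c, hc⟩ := hP ▸ card_dvd_of_le hPle
    rw [hc, mul_comm 2 p] at hd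
    rcases (Nat.dvd_prime Nat.prime_two).1 (Nat.dvd_of_mul_dvd_mul_left hp.pos hd) with e | e
    · exact (eq_of_le_of_card_ge hPle (by rw [hc, e, mul_one, hP])).symm.le
    · exact absurd ((eq_of_le_of_card_ge inf_le_left (by rw [hc, e, H.hN, mul_comm])).ge.trans inf_le_right) hNK
  set PK : Sylow p K := P.subtype hPK with hPKdef
  have hcomm : normalizer ((PK : Subgroup K) : Set K) ≤ centralizer ((PK : Subgroup K) : Set K) := by
    intro y hy
    haveI : IsCyclic (P : Subgroup G) := isCyclic_of_prime_card hP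
    have hyP : (y : G) ∈ (P : Subgroup G) := hle ⟨mem_normalizer_iff.2 fun z => by
      constructor
      · intro hz
        exact ((mem_normalizer_iff.1 hy) ⟨z, hPK hz⟩).1 hz
      · intro hz
        have hzK : z ∈ K := by
          have h2 := mul_mem (mul_mem (inv_mem y.2) (hPK hz)) y.2
          simpa [mul_assoc] using h2
        exact ((mem_normalizer_iff.1 hy) ⟨z, hzK⟩).2 hz, y.2⟩
    letI := IsCyclic.commGroup (α := (P : Subgroup G))
    refine mem_centralizer_iff.2 fun z hz => Subtype.ext ?_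
    have h := congrArg Subtype.val (mul_comm (⟨(z : G), hz⟩ : (P : Subgroup G)) ⟨(y : G), hyP⟩)
    simpa only [Subgroup.coe_mul] using h
  set L := (MonoidHom.transferSylow PK hcomm).ker with hL
  have hLc : ¬ p ∣ Nat.card L := MonoidHom.not_dvd_card_ker_transferSylow PK hcomm
  haveI : (L.map K.subtype).Normal := ⟨by
    rintro _ ⟨k, hk, rfl⟩ g
    refine ⟨⟨g * (k : G) * g⁻¹, hK.conj_mem _ k.2 g⟩, ?_, rfl⟩
    show _ = _
    have ho : ¬ p ∣ orderOf (MonoidHom.transferSylow PK hcomm ⟨g * (k : G) * g⁻¹, hK.conj_mem _ k.2 g⟩) := by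
      intro h
      have h1 := h.trans (orderOf_map_dvd _ _)
      rw [orderOf_mk, show g * (k : G) * g⁻¹ = MulAut.conj g (k : G) from rfl,
        MulEquiv.orderOf_eq, Subgroup.orderOf_coe] at h1
      exact hLc (h1.trans (orderOf_mk k hk ▸ orderOf_dvd_natCard (⟨k, hk⟩ : L)))
    have hd := orderOf_dvd_natCard (MonoidHom.transferSylow PK hcomm ⟨g * (k : G) * g⁻¹, hK.conj_mem _ k.2 g⟩)
    rw [Sylow.card_eq_multiplicity] at hd
    obtain ⟨j, -, hj⟩ := (Nat.dvd_prime_pow hp).1 hd
    rcases Nat.eq_zero_or_pos j with rfl | hj0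
    · exact orderOf_eq_one_iff.1 (by rw [hj, pow_zero])
    · exact absurd (hj ▸ dvd_pow_self p hj0.ne') ho⟩
  have hL0 : L.map K.subtype = ⊥ := H.eq_bot_of_coprime _ (by
    rw [Subgroup.card_map_of_injective K.subtype_injective]; exact hLc)
  have hLb : L = ⊥ := (Subgroup.map_eq_bot_iff_of_injective _ K.subtype_injective).1 hL0
  have hcomp := MonoidHom.ker_transferSylow_isComplement' PK hcomm
  rw [← hL, hLb] at hcomp
  have htop : (PK : Subgroup K) = ⊤ := Subgroup.isComplement'_bot_left.1 hcomp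
  have hKP : K = (P : Subgroup G) := le_antisymm (fun y hy => by
    have : (⟨y, hy⟩ : K) ∈ (PK : Subgroup K) := by rw [htop]; trivial
    exact this) hPK
  exact H.not_normal (hKP ▸ hK)

theorem Hyp.not_comm (H : Hyp α P) : ¬ IsMulCommutative G := fun h =>
  H.not_normal ⟨fun n hn g => by rwa [h.is_comm.comm g n, mul_assoc, mul_inv_cancel, mul_one]⟩

theorem Hyp.card_centralizer (H : Hyp α P) :
    Nat.card (centralizer ((P : Subgroup G) : Set G)) = p := by
  have hp : p.Prime := Fact.out
  haveI := H.isSimpleGroup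
  obtain ⟨e, -, he1, hNe, hCd⟩ := Centralize.centralizer_data H.not_comm P H.card_P
  obtain ⟨c, hc⟩ := hCd
  rw [H.hN, hc, mul_assoc, mul_comm 2 p] at hNe
  have h2 : c * e = 2 := (Nat.eq_of_mul_eq_mul_left hp.pos hNe).symm
  rcases (Nat.dvd_prime Nat.prime_two).1 (h2 ▸ dvd_mul_right c e) with rfl | rfl
  · rw [hc, mul_one]
  · omega

/-- An element inverting an element of order `p` fixes at most two points. -/
theorem Hyp.card_fixedBy_le (H : Hyp α P) {x u : G} (hx : orderOf x = p)
    (hu : u * x * u⁻¹ = x⁻¹) : Nat.card (MulAction.fixedBy α u) ≤ 2 := by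
  have hp : p.Prime := Fact.out
  have hux : ∀ i : ℕ, u * x ^ i = (x ^ i)⁻¹ * u := fun i => by
    rw [← inv_pow, ← hu, conj_pow]; group
  have key : Function.Injective
      fun w : MulAction.fixedBy α u × Fin p => x ^ (w.2 : ℕ) • (w.1 : α) := by
    rintro ⟨⟨a, ha⟩, i⟩ ⟨⟨b, hb⟩, k⟩ h
    simp only at h
    rw [MulAction.mem_fixedBy] at ha hb
    have h2 : (x ^ (i : ℕ))⁻¹ • a = (x ^ (k : ℕ))⁻¹ • b := by
      have := congrArg (u • ·) h
      simp only [← mul_smul, hux] at this
      rwa [mul_smul, mul_smul, ha, hb] at this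
    set g := x ^ (i : ℕ) with hg
    set h' := x ^ (k : ℕ) with hh
    have hc : Commute g h' := (Commute.refl x).pow_pow _ _
    have ha1 : a = (g⁻¹ * h') • b := by rw [mul_smul, ← h, inv_smul_smul]
    have ha2 : a = (g * h'⁻¹) • b := by rw [mul_smul, ← h2, smul_inv_smul]
    have hfix : ((g⁻¹ * h') * (g⁻¹ * h')) • b = b := by
      rw [mul_smul, ← ha1, ha2, ← mul_smul]
      have : g⁻¹ * h' * (g * h'⁻¹) = 1 := by
        rw [mul_assoc, ← mul_assoc h', ← hc.eq, mul_assoc, mul_inv_cancel, mul_one, inv_mul_cancel]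
      rw [this, one_smul]
    have hd : orderOf (g⁻¹ * h') ∣ p := by
      refine orderOf_dvd_of_pow_eq_one ?_
      rw [hc.inv_left.mul_pow, inv_pow, hg, hh, ← pow_mul, ← pow_mul, mul_comm (i : ℕ),
        mul_comm (k : ℕ), pow_mul, pow_mul, show x ^ p = 1 by rw [← hx, pow_orderOf_eq_one]]
      simp
    have hgh : g = h' := by
      rcases (Nat.dvd_prime hp).1 hd with e | e
      · exact inv_mul_eq_one.1 (orderOf_eq_one_iff.1 e)
      · refine absurd hfix (H.free ?_ b)
        rw [← pow_two, orderOf_pow' _ two_ne_zero, e,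
          (hp.coprime_iff_not_dvd.2 fun d => by
            have := Nat.le_of_dvd two_pos d; have := H.p3; omega).gcd_eq_one, Nat.div_one]
    have hik : i = k := Fin.ext (pow_injOn_Iio_orderOf (by rw [Set.mem_Iio, hx]; exact i.2)
      (by rw [Set.mem_Iio, hx]; exact k.2) hgh)
    refine Prod.ext (Subtype.ext ?_) hik
    show a = b
    rw [ha1, hgh, inv_mul_cancel, one_smul]
  have := Nat.card_le_card_of_injective _ key
  rw [Nat.card_prod, Nat.card_eq_fintype_card (α := Fin p), Fintype.card_fin, H.hα] at this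
  exact Nat.le_of_mul_le_mul_right this hp.pos

end Cfsg.Agent.BlocksChars.DegreeTwoP
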