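import Cfsg.Agent.BlocksChars.DegreeTwoP.Involution
import Cfsg.Agent.Lib.PGroups.UniqueSubgroup
import Cfsg.Agent.Lib.CharTheory.DihedralPrincipal.Setting
import Mathlib.GroupTheory.Perm.Cycle.Type

/-!
# Degree `2 p`: a Sylow 2-subgroup is a four-group or dihedral
-/

set_option autoImplicit false
set_option linter.style.haveILetI false
set_option linter.unusedSectionVars false

namespace Cfsg.Agent.BlocksChars.DegreeTwoP

open Subgroup Equiv

universe u v

/-- A permutation of `2`-power order that is semiregular outside a transposed pair. -/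
theorem sign_pair_free {β : Type*} [Fintype β] [DecidableEq β] (x : Perm β) {a b : β} (hab : a ≠ b)
    (hxa : x a = b) (hxb : x b = a) {K : ℕ} (hK : 2 ≤ K) (hord : orderOf x = K) (hKe : 2 ∣ K)
    (hfree : ∀ c, c ≠ a → c ≠ b → ∀ i : ℕ, (x ^ i) c = c → K ∣ i) :
    ∃ r : ℕ, r * K + 2 = Fintype.card β ∧ Perm.sign x = (-1) ^ (r + 1) := by
  set y := Equiv.swap a b * x with hy
  have hya : y a = a := by rw [hy, Perm.mul_apply, hxa, Equiv.swap_apply_right]
  have hyb : y b = b := by rw [hy, Perm.mul_apply, hxb, Equiv.swap_apply_left]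
  have hout : ∀ c, c ≠ a → c ≠ b → x c ≠ a ∧ x c ≠ b := fun c ha hb =>
    ⟨fun e => hb (x.injective (e.trans hxb.symm)), fun e => ha (x.injective (e.trans hxa.symm))⟩
  have hyc : ∀ c, c ≠ a → c ≠ b → y c = x c := fun c ha hb => by
    rw [hy, Perm.mul_apply, Equiv.swap_apply_of_ne_of_ne (hout c ha hb).1 (hout c ha hb).2]
  have hpow : ∀ i c, c ≠ a → c ≠ b → (y ^ i) c = (x ^ i) c ∧ (x ^ i) c ≠ a ∧ (x ^ i) c ≠ b := by
    intro i c ha hb
    induction i with
    | zero => simp [ha, hb]
    | succ i ih =>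
      refine ⟨?_, ?_⟩
      · show (y ^ (i + 1)) c = (x ^ (i + 1)) c
        rw [pow_succ' y, pow_succ' x]
        show y ((y ^ i) c) = x ((x ^ i) c)
        rw [ih.1, hyc _ ih.2.1 ih.2.2]
      · rw [pow_succ' x]
        exact hout _ ih.2.1 ih.2.2
  have hfix : ∀ i, (y ^ i) a = a ∧ (y ^ i) b = b := fun i => by
    induction i with
    | zero => simp
    | succ i ih =>
      rw [pow_succ' y]
      show y ((y ^ i) a) = a ∧ y ((y ^ i) b) = b
      rw [ih.1, ih.2]; exact ⟨hya, hyb⟩
  have hyK : y ^ K = 1 := Equiv.ext fun c => by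
    rw [Perm.one_apply]
    rcases eq_or_ne c a with rfl | ha
    · exact (hfix K).1
    rcases eq_or_ne c b with rfl | hb
    · exact (hfix K).2
    rw [(hpow K c ha hb).1, ← hord, pow_orderOf_eq_one, Perm.one_apply]
  have hall : ∀ n ∈ y.cycleType, n = K := by
    intro n hn
    have hdvd : n ∣ K := (Perm.dvd_of_mem_cycleType hn).trans (orderOf_dvd_of_pow_eq_one hyK)
    obtain ⟨c, τ, hyct, hdis, hc, rfl⟩ := (Perm.mem_cycleType_iff).1 hn
    refine Nat.dvd_antisymm hdvd ?_
    obtain ⟨g, hg⟩ := hc.nonempty_support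
    have hτg : τ g = g := by
      rcases hdis g with h | h
      · exact absurd h (Perm.mem_support.1 hg)
      · exact h
    have hga : g ≠ a ∧ g ≠ b := by
      constructor <;>
      · rintro rfl
        refine Perm.mem_support.1 hg ?_
        have h := (show y g = g by assumption)
        rwa [hyct, Perm.mul_apply, hτg] at h
    refine hfree g hga.1 hga.2 c.support.card ?_
    rw [← (hpow _ g hga.1 hga.2).1, hyct, hdis.commute.mul_pow, Perm.mul_apply,
      Perm.pow_apply_eq_self_of_apply_eq_self hτg, ← hc.orderOf, pow_orderOf_eq_one, Perm.one_apply]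
  have hsupp : y.support = (Finset.univ.erase a).erase b := by
    ext c
    simp only [Perm.mem_support, Finset.mem_erase, Finset.mem_univ, and_true]
    constructor
    · intro h
      exact ⟨fun e => h (e ▸ hyb), fun e => h (e ▸ hya)⟩
    · rintro ⟨hb, ha⟩ e
      have h1 := hfree c ha hb 1 (by rw [pow_one, ← hyc c ha hb]; exact e)
      have := Nat.le_of_dvd one_pos h1
      omega
  refine ⟨Multiset.card y.cycleType, ?_, ?_⟩
  · have h1 := y.sum_cycleType
    rw [Multiset.eq_replicate_card.2 hall, Multiset.sum_replicate, smul_eq_mul, hsupp,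
      Finset.card_erase_of_mem (by simp [hab.symm]), Finset.card_erase_of_mem (Finset.mem_univ a),
      Finset.card_univ] at h1
    have := Fintype.one_lt_card_iff.2 ⟨a, b, hab⟩
    omega
  · have hx : x = Equiv.swap a b * y := by rw [hy, ← mul_assoc, Equiv.swap_mul_self, one_mul]
    obtain ⟨k, rfl⟩ := hKe
    rw [hx, map_mul, Perm.sign_swap hab, Perm.sign_of_cycleType, Multiset.eq_replicate_card.2 hall,
      Multiset.sum_replicate, Multiset.card_replicate, smul_eq_mul, pow_succ' (-1 : ℤˣ), pow_add,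
      show Multiset.card y.cycleType * (2 * k) = 2 * (Multiset.card y.cycleType * k) by ring, pow_mul]
    simp

/-- A semiregular action has orbits of the size of the group. -/
theorem card_dvd_of_free {T : Type*} [Group T] [Finite T] {β : Type*} [MulAction T β] [Finite β]
    (h : ∀ (t : T) (b : β), t • b = b → t = 1) : Nat.card T ∣ Nat.card β := by
  have hbot : ∀ b : β, MulAction.stabilizer T b = ⊥ := fun b =>
    (eq_bot_iff_forall _).2 fun t ht => h t b ht
  rw [Nat.card_congr (MulAction.selfEquivOrbitsQuotientProd hbot), Nat.card_prod]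
  exact dvd_mul_left _ _

variable {G : Type u} [Group G] [Finite G] {α : Type v} [MulAction G α] [Finite α] {p : ℕ}
  [Fact p.Prime] {P : Sylow p G}

theorem Hyp.sign_eq_one (H : Hyp α P) [Fintype α] [DecidableEq α] (g : G) :
    Perm.sign (MulAction.toPermHom G α g) = 1 := by
  haveI := H.isSimpleGroup
  have hn := (Perm.sign.comp (MulAction.toPermHom G α)).normal_ker
  rcases hn.eq_bot_or_eq_top with h | h
  · exfalso
    have h1 := Nat.card_le_card_of_injective _ ((MonoidHom.ker_eq_bot_iff _).1 h)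
    rw [Nat.card_eq_fintype_card (α := ℤˣ), Fintype.card_units_int] at h1
    obtain ⟨c, hc⟩ := H.four_dvd
    have := Nat.card_pos (α := G)
    omega
  · exact (h ▸ Subgroup.mem_top g : g ∈ (Perm.sign.comp (MulAction.toPermHom G α)).ker)

/-- Data of a dihedral Sylow subgroup. -/
theorem Hyp.sylow_shape (H : Hyp α P) (S : Blk P) {n : ℕ} (hn : p = 2 * n ^ 2 + 2 * n + 1)
    (hsz : ∀ a b : α, b ≠ a → Nat.card (MulAction.orbit (MulAction.stabilizer G a) b) = n * (2 * n + 1) ∨
      Nat.card (MulAction.orbit (MulAction.stabilizer G a) b) = (n + 1) * (2 * n + 1)) :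
    ∃ Q : Sylow 2 G, Nat.card (Q : Subgroup G) ∣ 2 * (n * (n + 1)) ∧
      (IsKleinFour (Q : Subgroup G) ∨
        ∃ (σ τ : G) (m : ℕ), CharTheory.DihedralPrincipal.DihSylow Q σ τ m) := by
  classical
  haveI := Fintype.ofFinite α
  haveI := Fact.mk Nat.prime_two
  haveI := H.faith
  haveI := H.pretrans
  haveI := H.isSimpleGroup
  have hp3 := H.p3
  obtain ⟨Q⟩ : Nonempty (Sylow 2 G) := inferInstance
  refine ⟨Q, ?_⟩
  have hQ4 : 4 ∣ Nat.card (Q : Subgroup G) := by
    rw [Q.card_eq_multiplicity]
    refine Nat.pow_dvd_pow 2 (m := 2) ?_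
    exact (Nat.prime_two.pow_dvd_iff_le_factorization Nat.card_pos.ne').1 H.four_dvd
  haveI : Nontrivial (Q : Subgroup G) := by
    rw [← Finite.one_lt_card_iff_nontrivial]
    have := Nat.le_of_dvd Nat.card_pos hQ4
    omega
  haveI := Q.isPGroup'.center_nontrivial
  obtain ⟨k, hk0, hk⟩ := (Q.isPGroup'.to_subgroup (Subgroup.center (Q : Subgroup G))).nontrivial_iff_card.1
    inferInstance
  obtain ⟨i, hi⟩ := exists_prime_orderOf_dvd_card' (G := Subgroup.center (Q : Subgroup G)) 2
    (by rw [hk]; exact dvd_pow_self 2 hk0.ne')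
  rw [← Subgroup.orderOf_coe, ← Subgroup.orderOf_coe] at hi
  set z : G := ((i : (Q : Subgroup G)) : G) with hz
  have hzQ : z ∈ (Q : Subgroup G) := (i : (Q : Subgroup G)).2
  have hzc : ∀ g ∈ (Q : Subgroup G), g * z = z * g := fun g hg =>
    congrArg Subtype.val (Subgroup.mem_center_iff.1 i.2 ⟨g, hg⟩)
  have hfix2 : ∀ {w : G}, orderOf w = 2 → (MulAction.fixedBy α w).ncard = 2 := fun {w} hw => by
    rw [← Nat.card_coe_set_eq, H.card_fixedBy S hw]
  obtain ⟨a, b, hab, hfz⟩ := Set.ncard_eq_two.1 (hfix2 hi)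
  have hperm : ∀ g : G, g * z = z * g → (g • a = a ∨ g • a = b) ∧ (g • b = a ∨ g • b = b) := by
    intro g hg
    have key : ∀ c ∈ MulAction.fixedBy α z, g • c ∈ MulAction.fixedBy α z := fun c hc => by
      rw [MulAction.mem_fixedBy] at hc ⊢
      rw [← mul_smul, ← hg, mul_smul, hc]
    refine ⟨?_, ?_⟩
    · simpa [hfz] using key a (by simp [hfz])
    · simpa [hfz] using key b (by simp [hfz])
  set T : Subgroup G := (Q : Subgroup G) ⊓ MulAction.stabilizer G a with hT
  have hTb : ∀ t ∈ T, t • a = a ∧ t • b = b := fun t ht => by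
    refine ⟨ht.2, ?_⟩
    rcases (hperm t (hzc t ht.1)).2 with h | h
    · exact absurd (MulAction.injective t (h.trans (MulAction.mem_stabilizer_iff.1 ht.2).symm)).symm hab
    · exact h
  have hTfree : ∀ t ∈ T, ∀ c, c ≠ a → c ≠ b → t • c = c → t = 1 := by
    intro t ht c hca hcb hc
    by_contra h1
    have hto : ∃ j, orderOf t = 2 ^ (j + 1) := by
      obtain ⟨j, hj⟩ := Q.isPGroup' ⟨t, ht.1⟩
      obtain ⟨i, -, hi⟩ := (Nat.dvd_prime_pow Nat.prime_two).1
        (orderOf_dvd_of_pow_eq_one (show t ^ 2 ^ j = 1 from congrArg Subtype.val hj))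
      rcases i with _ | i
      · exact absurd (orderOf_eq_one_iff.1 hi) h1
      · exact ⟨i, hi⟩
    obtain ⟨j, hj⟩ := hto
    set w := t ^ 2 ^ j with hw
    have hwo : orderOf w = 2 := by
      rw [hw, orderOf_pow' t (by positivity), hj, pow_succ, Nat.gcd_mul_right_left,
        Nat.mul_div_cancel_left _ (by positivity)]
    have h3 : ({a, b, c} : Finset α) ⊆ (MulAction.fixedBy α w).toFinset := by
      intro d hd
      rw [Set.mem_toFinset, MulAction.mem_fixedBy, hw]
      simp only [Finset.mem_insert, Finset.mem_singleton] at hd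
      have hmem : t ∈ MulAction.stabilizer G d := by
        rcases hd with rfl | rfl | rfl
        · exact (hTb t ht).1
        · exact (hTb t ht).2
        · exact hc
      exact (MulAction.stabilizer G d).pow_mem hmem _
    have := Finset.card_le_card h3
    rw [Finset.card_eq_three.2 ⟨a, b, c, hab, hca.symm, hcb.symm, rfl⟩, ← Set.ncard_eq_toFinset_card',
      hfix2 hwo] at this
    omega
  -- the index of `T`
  have hQT : Nat.card (Q : Subgroup G) = 2 * Nat.card T := by
    have horb := MulAction.orbitEquivQuotientStabilizer (Q : Subgroup G) a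
    have h1 := Subgroup.card_eq_card_quotient_mul_card_subgroup
      (MulAction.stabilizer (Q : Subgroup G) a)
    rw [← Nat.card_congr horb] at h1
    have hst : Nat.card (MulAction.stabilizer (Q : Subgroup G) a) = Nat.card T :=
      Nat.card_congr {
        toFun := fun t => ⟨((t : (Q : Subgroup G)) : G), (t : (Q : Subgroup G)).2, t.2⟩
        invFun := fun t => ⟨⟨t.1, t.2.1⟩, t.2.2⟩
        left_inv := fun _ => rfl
        right_inv := fun _ => rfl }
    rw [hst] at h1
    have hle : Nat.card (MulAction.orbit (Q : Subgroup G) a) ≤ 2 := by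
      rw [Nat.card_coe_set_eq]
      refine (Set.ncard_le_ncard (t := {a, b}) ?_).trans (Set.ncard_pair hab).le
      rintro _ ⟨g, rfl⟩
      exact (hperm g (hzc g g.2)).1
    have hne : Nat.card (MulAction.orbit (Q : Subgroup G) a) ≠ 1 := fun e => by
      rw [e, one_mul] at h1
      have h2 : 2 * Nat.card (Q : Subgroup G) ∣ Nat.card G := by
        rw [h1, ← H.stab_mul a, mul_assoc 2 p]
        exact mul_dvd_mul_left 2 ((card_dvd_of_le (show T ≤ MulAction.stabilizer G a from inf_le_right)).mul_left p)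
      rw [Q.card_eq_multiplicity, ← pow_succ', Nat.prime_two.pow_dvd_iff_le_factorization
        Nat.card_pos.ne'] at h2
      omega
    have hpos : 0 < Nat.card (MulAction.orbit (Q : Subgroup G) a) :=
      Nat.card_pos_iff.2 ⟨⟨⟨a, MulAction.mem_orbit_self a⟩⟩, inferInstance⟩
    rw [h1, show Nat.card (MulAction.orbit (Q : Subgroup G) a) = 2 by omega]
  have hT2 : 2 ∣ Nat.card T := by rw [hQT] at hQ4; omega
  -- `T` is semiregular on a suborbit
  obtain ⟨c, hc⟩ : ∃ c, c ∉ insert a (MulAction.orbit (MulAction.stabilizer G a) b) := by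
    by_contra hall
    push Not at hall
    have h1 : Set.univ ⊆ insert a (MulAction.orbit (MulAction.stabilizer G a) b) := fun c _ => hall c
    have h2 := (Set.ncard_le_ncard h1).trans (Set.ncard_insert_le a _)
    rw [Set.ncard_univ, H.hα, ← Nat.card_coe_set_eq] at h2
    rcases hsz a b hab.symm with e | e <;> rw [e] at h2 <;> nlinarith
  rw [Set.mem_insert_iff, not_or] at hc
  have hTdvd : Nat.card T ∣ n * (2 * n + 1) ∨ Nat.card T ∣ (n + 1) * (2 * n + 1) := by
    set O := MulAction.orbit (MulAction.stabilizer G a) c with hO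
    let act : MulAction T O :=
      { smul := fun t d => ⟨(t : G) • (d : α), by
          obtain ⟨g, hg⟩ := d.2
          exact ⟨(⟨t, t.2.2⟩ : MulAction.stabilizer G a) * g, by rw [← hg]; exact mul_smul _ _ _⟩⟩
        one_smul := fun d => Subtype.ext (one_smul G (d : α))
        mul_smul := fun s t d => Subtype.ext (mul_smul (s : G) (t : G) (d : α)) }
    have hd : Nat.card T ∣ Nat.card O := card_dvd_of_free (T := T) fun t d h => by
      have h' : (t : G) • (d : α) = d := congrArg Subtype.val h
      refine Subtype.ext (hTfree t t.2 d ?_ ?_ h')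
      · intro e
        obtain ⟨g, hg⟩ := d.2
        refine hc.1 (MulAction.injective (g : G) ?_)
        show (g : G) • c = (g : G) • a
        exact hg.trans (e.trans (MulAction.mem_stabilizer_iff.1 g.2).symm)
      · intro e
        refine hc.2 ?_
        have hd2 : b ∈ O := e ▸ d.2
        rw [MulAction.orbit_eq_iff.2 hd2]
        exact MulAction.mem_orbit_self c
    exact (hsz a c hc.1).imp (fun e => by rwa [← e]) fun e => by rwa [← e]
  have hcop : (Nat.card T).Coprime (2 * n + 1) := by
    obtain ⟨j, hj⟩ := IsPGroup.iff_card.1 (Q.isPGroup'.to_le (show T ≤ (Q : Subgroup G) from inf_le_left))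
    rw [hj]
    exact Nat.Coprime.pow_left j (Nat.coprime_two_left.2 ⟨n, rfl⟩)
  have hTn : Nat.card T ∣ n * (n + 1) := hTdvd.elim
    (fun h => (hcop.dvd_of_dvd_mul_right h).mul_right _)
    fun h => (hcop.dvd_of_dvd_mul_right h).mul_left _
  -- elements outside `T` are involutions
  have hinvol : ∀ x ∈ (Q : Subgroup G), x ∉ T → x * x = 1 := by
    intro x hx hxT
    by_contra hx2
    have hxa : x • a = b := ((hperm x (hzc x hx)).1).resolve_left fun h => hxT ⟨hx, h⟩
    have hxb : x • b = a := ((hperm x (hzc x hx)).2).resolve_right fun h =>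
      hab (MulAction.injective x (hxa.trans h.symm))
    have hsqT : x * x ∈ T := ⟨mul_mem hx hx, by
      show (x * x) • a = a
      rw [mul_smul, hxa, hxb]⟩
    obtain ⟨e, he⟩ : ∃ e, orderOf x = 2 ^ e := by
      obtain ⟨j, hj⟩ := Q.isPGroup' ⟨x, hx⟩
      obtain ⟨i, -, hi⟩ := (Nat.dvd_prime_pow Nat.prime_two).1
        (orderOf_dvd_of_pow_eq_one (show x ^ 2 ^ j = 1 from congrArg Subtype.val hj))
      exact ⟨i, hi⟩
    obtain ⟨e, rfl⟩ : ∃ e', e = e' + 2 := by
      refine ⟨e - 2, ?_⟩
      rcases (show e = 0 ∨ e = 1 ∨ 2 ≤ e by omega) with rfl | rfl | h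
      · exact absurd (by rw [orderOf_eq_one_iff.1 (he.trans (pow_zero 2)), mul_one]) hx2
      · exact absurd (by rw [← pow_two, ← pow_one 2, ← he, pow_orderOf_eq_one]) hx2
      · omega
    have hper : orderOf (MulAction.toPermHom G α x) = 2 ^ (e + 2) := by
      rw [orderOf_injective (MulAction.toPermHom G α) (fun g h e' => FaithfulSMul.eq_of_smul_eq_smul
        (α := α) fun d => DFunLike.congr_fun e' d) x, he]
    obtain ⟨r, hr, hsign⟩ := sign_pair_free (MulAction.toPermHom G α x) hab hxa hxb
      (K := 2 ^ (e + 2)) (by have : 0 < 2 ^ e := by positivity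
                             rw [pow_add]; omega) hper (dvd_pow_self 2 (by omega)) (fun d hda hdb i hi => by
        rw [← map_pow] at hi
        have hi' : x ^ i • d = d := hi
        rw [← he]
        refine orderOf_dvd_of_pow_eq_one ?_
        rcases Nat.even_or_odd i with ⟨j, rfl⟩ | hodd
        · exact hTfree _ (by
            rw [← two_mul, pow_mul, pow_two]; exact pow_mem hsqT j) d hda hdb hi'
        · exfalso
          have h2 : x ^ (2 * i) • d = d := by rw [two_mul, pow_add, mul_smul, hi', hi']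
          have h3 : x ^ (2 * i) = 1 := hTfree _ (by
            rw [pow_mul, pow_two]; exact pow_mem hsqT i) d hda hdb h2
          have h4 := orderOf_dvd_of_pow_eq_one h3
          rw [he, pow_succ' 2 (e + 1)] at h4
          have h5 : 2 ∣ i := (dvd_pow_self 2 (by omega : e + 1 ≠ 0)).trans
            (Nat.dvd_of_mul_dvd_mul_left two_pos h4)
          exact Nat.not_even_iff_odd.2 hodd (even_iff_two_dvd.2 h5))
    rw [H.sign_eq_one x] at hsign
    have hrodd : Odd r := by
      rcases Nat.even_or_odd r with h | h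
      · rw [h.add_one.neg_one_pow] at hsign
        exact absurd hsign (by decide)
      · exact h
    rw [← Nat.card_eq_fintype_card, H.hα, hn] at hr
    have hKQ : 2 ^ (e + 2) ∣ 2 * Nat.card T := by
      rw [← hQT, ← he]
      exact (orderOf_mk x hx).symm ▸ orderOf_dvd_natCard (⟨x, hx⟩ : (Q : Subgroup G))
    obtain ⟨m, hm⟩ := hKQ.trans (Nat.mul_dvd_mul_left 2 hTn)
    have hm2 : 2 ^ (e + 2) * r = 2 ^ (e + 2) * (2 * m) := by
      calc 2 ^ (e + 2) * r = 2 * (2 * (n * (n + 1))) := by linarith
        _ = _ := by rw [hm]; ring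
    have := Nat.eq_of_mul_eq_mul_left (by positivity) hm2
    rw [Nat.odd_iff] at hrodd
    omega
  obtain ⟨j, hjQ, hjT⟩ : ∃ j ∈ (Q : Subgroup G), j ∉ T := by
    by_contra hall
    push Not at hall
    have := card_le_of_le (show (Q : Subgroup G) ≤ T from hall)
    have := Nat.card_pos (α := T)
    omega
  have hjj := hinvol j hjQ hjT
  have hji : j⁻¹ = j := inv_eq_of_mul_eq_one_right hjj
  have hinv : ∀ t ∈ T, j * t * j⁻¹ = t⁻¹ := fun t ht => by
    have hmem : j * t ∉ T := fun h => hjT (by simpa [mul_assoc] using mul_mem h (inv_mem ht))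
    have h := hinvol _ (mul_mem hjQ ht.1) hmem
    rw [hji]
    exact eq_inv_of_mul_eq_one_left (by rw [← h]; group)
  have hja : j • a = b := ((hperm j (hzc j hjQ)).1).resolve_left fun h => hjT ⟨hjQ, h⟩
  haveI hTab : IsMulCommutative T := ⟨⟨fun s t => Subtype.ext (by
    have h := hinv _ (mul_mem s.2 t.2)
    rw [show j * ((s : G) * t) * j⁻¹ = (j * s * j⁻¹) * (j * t * j⁻¹) by group, hinv _ s.2, hinv _ t.2,
      ← mul_inv_rev] at h
    show (s : G) * t = t * s
    exact (inv_inj.1 h).symm)⟩⟩
  have hjo : orderOf j = 2 := orderOf_eq_prime (by rw [pow_two]; exact hjj) fun e =>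
    hjT (e ▸ one_mem T)
  obtain ⟨c', d', hcd', hfj⟩ := Set.ncard_eq_two.1 (hfix2 hjo)
  have hne : ∀ q ∈ MulAction.fixedBy α j, q ≠ a ∧ q ≠ b := fun q hq => by
    rw [MulAction.mem_fixedBy] at hq
    constructor
    · rintro rfl; exact hab (hq.symm.trans hja)
    · rintro rfl; exact hab (MulAction.injective j (hja.trans hq.symm))
  have hinvT : ∀ t ∈ T, t * t = 1 → t ≠ 1 → t • c' = d' := by
    intro t ht htt ht1
    have hcom : t * j = j * t := by
      have h := hinv t ht
      rw [inv_eq_of_mul_eq_one_right htt, mul_inv_eq_iff_eq_mul] at h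
      exact h.symm
    have h1 : t • c' ∈ MulAction.fixedBy α j := by
      rw [MulAction.mem_fixedBy, ← mul_smul, ← hcom, mul_smul,
        MulAction.mem_fixedBy.1 (show c' ∈ MulAction.fixedBy α j by simp [hfj])]
    rw [hfj] at h1
    rcases h1 with h1 | h1
    · have hcc := hne c' (by simp [hfj])
      exact absurd (hTfree t ht c' hcc.1 hcc.2 h1) ht1
    · exact h1
  haveI hcyc : IsCyclic T := PGroups.UniqueSubgroup.isCyclic_of_abelian
    (Q.isPGroup'.to_le (show T ≤ (Q : Subgroup G) from inf_le_left)) (by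
      intro s t hs ht hs1
      by_cases ht1 : t = 1
      · rw [ht1]; exact one_mem _
      have hs' : (s : G) * s = 1 := by rw [← pow_two]; exact congrArg Subtype.val hs
      have ht' : (t : G) * t = 1 := by rw [← pow_two]; exact congrArg Subtype.val ht
      have es := hinvT s s.2 hs' fun e => hs1 (Subtype.ext e)
      have et := hinvT t t.2 ht' fun e => ht1 (Subtype.ext e)
      have hcc := hne c' (by simp [hfj])
      have h := hTfree ((s : G)⁻¹ * t) (mul_mem (inv_mem s.2) t.2) c' hcc.1 hcc.2 (by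
        rw [mul_smul, et, ← es, inv_smul_smul])
      rw [show t = s from Subtype.ext (inv_mul_eq_one.1 h).symm]
      exact Subgroup.mem_zpowers s)
  obtain ⟨⟨σ, hσT⟩, hσgen⟩ := hcyc.exists_generator
  have hσo : orderOf σ = Nat.card T := by
    rw [← orderOf_mk σ hσT]
    exact orderOf_eq_card_of_forall_mem_zpowers hσgen
  obtain ⟨j', hj'⟩ := IsPGroup.iff_card.1 (Q.isPGroup'.to_le (show T ≤ (Q : Subgroup G) from inf_le_left))
  refine ⟨by rw [hQT]; exact Nat.mul_dvd_mul_left 2 hTn, ?_⟩
  rcases j' with _ | _ | l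
  · rw [hj'] at hT2; omega
  · refine Or.inl ⟨by rw [hQT, hj']; norm_num, ?_⟩
    refine (not_isCyclic_iff_exponent_eq_prime Nat.prime_two (by rw [hQT, hj']; norm_num)).1 ?_
    exact SmallSimple.PSqQR.minFac_noncyclic H.not_comm Nat.prime_two
      ((dvd_mul_right 2 2).trans H.four_dvd) (fun s hs _ => hs.two_le) Q
  · refine Or.inr ⟨σ, j, 2 ^ (l + 1), ?_⟩
    have hσo' : orderOf σ = 2 * 2 ^ (l + 1) := by rw [hσo, hj', ← pow_succ']
    have hjn : j ∉ Subgroup.zpowers σ := fun h => hjT (Subgroup.zpowers_le.2 hσT h)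
    refine ⟨hσT.1, hjQ, hσo', hjj, hinv σ hσT, hjn, dvd_pow_self 2 (by omega), ⟨_, rfl⟩, ?_⟩
    exact CharTheory.DihedralPrincipal.exists_cases_of_card hσT.1 hjQ hσo' hjn (by
      rw [hQT, hj']; ring)

end Cfsg.Agent.BlocksChars.DegreeTwoP
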